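import Cfsg.Agent.Lib.MaxSub.Extra.Quad.Local

/-!
An overgroup with the local property normalises `R`: an involution outside the normaliser, of non-zero trace,
would generate with a non-central involution of `R` a dihedral group with a forbidden centre.
-/

set_option autoImplicit false

namespace CfsgLib.MaxSub.QuadTwo

open Matrix Subgroup CfsgLib.PauliFour CfsgLib.MaxSub.Extra

variable {F : Type*} [Field F] {ι : Type} [Fintype ι] [DecidableEq ι]

/-- The product of square roots attached to two commuting involutions. -/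
noncomputable def sEl (u : Fˣ) (a b : GL ι F) : GL ι F := tau u a * tau u b * (tau u (a * b))⁻¹

theorem pm_flip {a b : GL ι F} (h : PM (a * b * a⁻¹) b) : PM (b * a * b⁻¹) a := by
  rcases h with e | e <;> rw [mul_inv_eq_iff_eq_mul] at e
  · exact Or.inl (mul_inv_eq_iff_eq_mul.2 e.symm)
  · refine Or.inr (mul_inv_eq_iff_eq_mul.2 ?_)
    rw [neg_mul] at e ⊢
    rw [e, neg_neg]

/-- Two commuting independent involutions of `R`. -/
structure Pair (R : Subgroup (GL ι F)) (a b : GL ι F) : Prop where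
  ha : IQ R a
  hb : IQ R b
  com : Commute a b
  ind : ∃ r ∈ R, Commute r a ∧ Anti r b

namespace Sym

variable {R : Subgroup (GL ι F)} {u : Fˣ} (X : Sym R u)
include X

theorem exists_pair : ∃ a b, Pair R a b := by
  obtain ⟨a, ha⟩ := X.exists_iq
  obtain ⟨b, hb, hab, -, -, r, hr, h1, -, h2⟩ := X.exists_out ha.1 ha.1 ha.1 ha.1 ha.1
  exact ⟨a, b, ha, hb, hab.symm, r, hr, h1, h2⟩

theorem pair_prod {a b : GL ι F} (P : Pair R a b) : IQ R (a * b) := by
  refine ⟨mul_mem P.ha.1 P.hb.1, ?_, ?_⟩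
  · rw [P.com.symm.mul_mul_mul_comm, P.ha.2.1, P.hb.2.1, one_mul]
  · obtain ⟨r, -, h1, h2⟩ := P.ind
    exact X.not_scal_of_anti (Anti.comm_mul' h1 h2)

theorem tau_anti_inv {r z : GL ι F} (hz : z * z = 1) (h : Anti r z) :
    (tau u z)⁻¹ * r * tau u z = sc u * (z * r) := by
  have h' : Anti (sc u * (z * r)) z := by
    refine (Anti.sc_mul u (Anti.comm_mul' (Commute.refl z) h.symm)).symm
  have e := X.tau_anti hz h'
  rw [← mul_assoc z (sc u), ← (commute_sc u z).eq, mul_assoc (sc u), ← mul_assoc z z r, hz, one_mul,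
    ← mul_assoc (sc (-u)) (sc u) r, ← map_mul, show -u * u = 1 from Units.ext (by simp [X.iu]), map_one, one_mul, mul_inv_eq_iff_eq_mul] at e
  rw [mul_assoc, ← e, inv_mul_cancel_left]

section

variable {a b : GL ι F} (P : Pair R a b)
include P

theorem sEl_sq : sEl u a b * sEl u a b = 1 := by
  have pab := X.pair_prod P
  have h1 : Commute (tau u a) (tau u b) := X.tau_commute P.hb.2.1 (X.tau_commute P.ha.2.1 P.com.symm).symm
  have h2 : Commute (tau u a * tau u b) (tau u (a * b)) :=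
    X.tau_commute pab.2.1 ((X.tau_commute P.ha.2.1 ((Commute.refl a).mul_right P.com).symm).symm.mul_left
      (X.tau_commute P.hb.2.1 (P.com.symm.mul_right (Commute.refl b)).symm).symm)
  rw [sEl, h2.inv_right.symm.mul_mul_mul_comm, h1.symm.mul_mul_mul_comm, X.tau_sq P.ha.2.1, X.tau_sq P.hb.2.1,
    ← _root_.mul_inv_rev, X.tau_sq pab.2.1, mul_inv_cancel]

theorem sEl_coe : (sEl u a b : Matrix ι ι F) =
    (2 : F)⁻¹ • (1 + (a : Matrix ι ι F) + b - ((a : Matrix ι ι F) * b)) := by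
  have pab := X.pair_prod P
  have key : ((2 : F)⁻¹ • (1 + (a : Matrix ι ι F) + b - ((a : Matrix ι ι F) * b))) * tauM u (a * b) =
      tauM u a * tauM u b := by
    have aa : (a : Matrix ι ι F) * a = 1 := by rw [← Units.val_mul, P.ha.2.1, Units.val_one]
    have bb : (b : Matrix ι ι F) * b = 1 := by rw [← Units.val_mul, P.hb.2.1, Units.val_one]
    have ab : (a : Matrix ι ι F) * b = b * a := congrArg Units.val P.com.eq
    have h1 : (a : Matrix ι ι F) * ((a : Matrix ι ι F) * b) = b := by rw [← mul_assoc, aa, one_mul]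
    have h3 : (b : Matrix ι ι F) * ((a : Matrix ι ι F) * b) = a := by rw [← mul_assoc, ← ab, mul_assoc, bb, mul_one]
    have h4 : (a : Matrix ι ι F) * b * ((a : Matrix ι ι F) * b) = 1 := by rw [mul_assoc, h3, aa]
    have h2 := X.two
    have hu := X.iu
    simp only [tauM, Units.val_mul, smul_add, smul_sub, add_mul, sub_mul, mul_add, smul_mul_smul_comm, one_mul,
      mul_one, h1, h3, h4]
    match_scalars <;> field_simp <;>
      first | ring1 | linear_combination (1 : F) * hu | linear_combination (-1 : F) * hu |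
        linear_combination (2 : F) * hu | linear_combination (-2 : F) * hu | linear_combination (4 : F) * hu |
        linear_combination (-4 : F) * hu
  rw [sEl, Units.val_mul, Units.val_mul, X.tau_coe P.ha.2.1, X.tau_coe P.hb.2.1, ← key, ← X.tau_coe pab.2.1,
    mul_assoc, ← Units.val_mul (tau u (a * b)), mul_inv_cancel, Units.val_one, mul_one]

theorem sEl_trace : Matrix.trace (sEl u a b : Matrix ι ι F) ≠ 0 := by
  rw [X.sEl_coe P, Matrix.trace_smul, Matrix.trace_sub, Matrix.trace_add, Matrix.trace_add, Matrix.trace_one,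
    X.trace_eq_zero P.ha.1 P.ha.2.2, X.trace_eq_zero P.hb.1 P.hb.2.2, ← Units.val_mul,
    X.trace_eq_zero (X.pair_prod P).1 (X.pair_prod P).2.2]
  simp only [add_zero, sub_zero, smul_eq_mul]
  exact mul_ne_zero (inv_ne_zero X.two) X.ncard

theorem sEl_anti_right {r : GL ι F} (h1 : Commute r a) (h2 : Anti r b) :
    sEl u a b * r * (sEl u a b)⁻¹ = a * r := by
  have pab := X.pair_prod P
  rw [sEl, show tau u a * tau u b * (tau u (a * b))⁻¹ * r * (tau u a * tau u b * (tau u (a * b))⁻¹)⁻¹ =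
      tau u a * (tau u b * ((tau u (a * b))⁻¹ * r * tau u (a * b)) * (tau u b)⁻¹) * (tau u a)⁻¹ by group,
    X.tau_anti_inv pab.2.1 (Anti.comm_mul' h1 h2)]
  have c1 : Commute (sc u * (a * b)) (tau u b) :=
    X.tau_commute P.hb.2.1 ((commute_sc u b).mul_left (P.com.mul_left (Commute.refl b)))
  have e : tau u b * (sc u * (a * b * r)) * (tau u b)⁻¹ = a * r := by
    rw [← mul_assoc (sc u), ← mul_assoc (tau u b), c1.symm.eq, mul_assoc (sc u * (a * b)) (tau u b) r,
      mul_assoc (sc u * (a * b)) (tau u b * r), X.tau_anti P.hb.2.1 h2, mul_assoc (sc u), ← mul_assoc (a * b),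
      ← (commute_sc (-u) (a * b)).eq, mul_assoc (sc (-u)), ← mul_assoc (sc u), ← map_mul,
      show u * -u = 1 from Units.ext (by simp [X.iu]), map_one, one_mul, mul_assoc a b, ← mul_assoc b b r,
      P.hb.2.1, one_mul]
  rw [e, (X.tau_commute P.ha.2.1 (g := a * r) ((Commute.refl a).mul_left h1)).symm.eq, mul_inv_cancel_right]

theorem sEl_anti_left {r : GL ι F} (h1 : Anti r a) (h2 : Commute r b) :
    sEl u a b * r * (sEl u a b)⁻¹ = b * r := by
  have pab := X.pair_prod P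
  rw [sEl, show tau u a * tau u b * (tau u (a * b))⁻¹ * r * (tau u a * tau u b * (tau u (a * b))⁻¹)⁻¹ =
      tau u a * (tau u b * ((tau u (a * b))⁻¹ * r * tau u (a * b)) * (tau u b)⁻¹) * (tau u a)⁻¹ by group,
    X.tau_anti_inv pab.2.1 (h1.mul_comm' h2)]
  have c1 : Commute (sc u * (a * b * r)) (tau u b) :=
    X.tau_commute P.hb.2.1 ((commute_sc u b).mul_left ((P.com.mul_left (Commute.refl b)).mul_left h2))
  have c2 : Commute (sc u * (a * b)) (tau u a) :=
    X.tau_commute P.ha.2.1 ((commute_sc u a).mul_left ((Commute.refl a).mul_left P.com.symm))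
  rw [c1.symm.eq, mul_inv_cancel_right, ← mul_assoc (sc u), ← mul_assoc (tau u a), c2.symm.eq,
    mul_assoc (sc u * (a * b)) (tau u a) r, mul_assoc (sc u * (a * b)) (tau u a * r), X.tau_anti P.ha.2.1 h1,
    mul_assoc (sc u), ← mul_assoc (a * b), ← (commute_sc (-u) (a * b)).eq, mul_assoc (sc (-u)), ← mul_assoc (sc u),
    ← map_mul, show u * -u = 1 from Units.ext (by simp [X.iu]), map_one, one_mul, P.com.eq, mul_assoc b a,
    ← mul_assoc a a r, P.ha.2.1, one_mul]

theorem sEl_anti_both {r : GL ι F} (h1 : Anti r a) (h2 : Anti r b) :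
    sEl u a b * r * (sEl u a b)⁻¹ = -(b * a) * r := by
  have pab := X.pair_prod P
  have c0 : Commute r (tau u (a * b)) := X.tau_commute pab.2.1 (h1.mul_anti h2)
  have c2 : Commute (sc (-u) * b) (tau u a) :=
    X.tau_commute P.ha.2.1 ((commute_sc (-u) a).mul_left P.com.symm)
  rw [sEl, show tau u a * tau u b * (tau u (a * b))⁻¹ * r * (tau u a * tau u b * (tau u (a * b))⁻¹)⁻¹ =
      tau u a * (tau u b * ((tau u (a * b))⁻¹ * r * tau u (a * b)) * (tau u b)⁻¹) * (tau u a)⁻¹ by group,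
    mul_assoc _ r (tau u (a * b)), c0.eq, inv_mul_cancel_left, X.tau_anti P.hb.2.1 h2, ← mul_assoc (sc (-u)),
    ← mul_assoc (tau u a), c2.symm.eq, mul_assoc (sc (-u) * b) (tau u a) r,
    mul_assoc (sc (-u) * b) (tau u a * r), X.tau_anti P.ha.2.1 h1, mul_assoc (sc (-u)), ← mul_assoc b,
    ← (commute_sc (-u) b).eq, mul_assoc (sc (-u)) b, ← mul_assoc (sc (-u)), ← map_mul,
    show -u * -u = -1 from Units.ext (by simp [X.iu]), sc_neg, map_one, neg_one_mul, ← mul_assoc, neg_mul]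

/-- Commutators with the special element. -/
theorem sEl_cases {r : GL ι F} (hr : r ∈ R) :
    (Commute r a ∧ Commute r b ∧ sEl u a b * r * (sEl u a b)⁻¹ = r) ∨
      ∃ c, (c = a ∨ c = b ∨ c = -(b * a)) ∧ sEl u a b * r * (sEl u a b)⁻¹ = c * r := by
  rcases X.comm r hr a P.ha.1 with h1 | h1 <;> rcases X.comm r hr b P.hb.1 with h2 | h2
  · refine Or.inl ⟨h1, h2, ?_⟩
    have c : Commute r (sEl u a b) := ((X.tau_commute P.ha.2.1 h1).mul_right (X.tau_commute P.hb.2.1 h2)).mul_right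
      (X.tau_commute (X.pair_prod P).2.1 (h1.mul_right h2)).inv_right
    rw [← c.eq, mul_inv_cancel_right]
  · exact Or.inr ⟨a, Or.inl rfl, X.sEl_anti_right P h1 h2⟩
  · exact Or.inr ⟨b, Or.inr (Or.inl rfl), X.sEl_anti_left P h1 h2⟩
  · exact Or.inr ⟨-(b * a), Or.inr (Or.inr rfl), X.sEl_anti_both P h1 h2⟩

end

/-- An element of `R` equal, with a product, to an involution. -/
theorem nonscal {z j y : GL ι F} (hz : z * z = 1) (hy : y * y = 1) (hj : j ∈ R) (hn : ¬ PM j 1)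
    (h : Scal j → PM y (z * j)) : ¬ Scal j := fun hs => by
  have e := (h hs).sq
  rcases (X.scal_cases hj hs).resolve_left hn with e' | e'
  · rw [hy, e', mul_assoc, ← mul_assoc (sc u) z (sc u), (commute_sc u z).eq, mul_assoc z, ← mul_assoc, hz, one_mul,
      X.u_mul_u] at e
    exact X.ne_neg 1 e
  · rw [hy, e', mul_neg, neg_mul_neg, mul_assoc, ← mul_assoc (sc u) z (sc u), (commute_sc u z).eq, mul_assoc z,
      ← mul_assoc, hz, one_mul, X.u_mul_u] at e
    exact X.ne_neg 1 e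

end Sym

/-- The middle power of the product of two involutions. -/
theorem middle {z g : GL ι F} (hz : z * z = 1) (hg : g * g = 1) {m : ℕ} (hn : PM ((z * g) ^ (2 * m)) 1) :
    PM ((z * g) ^ m * z * ((z * g) ^ m)⁻¹) z ∧ PM (g * (z * g) ^ m * g⁻¹) ((z * g) ^ m) := by
  obtain ⟨h1, h2⟩ := dihedral_pow hz (Or.inl hg) m
  set j := (z * g) ^ m with hj
  have hjj : PM j⁻¹ j := by
    rw [two_mul, pow_add, ← hj] at hn
    have := (hn.mul (PM.refl j⁻¹)).symm
    rwa [mul_inv_cancel_right, one_mul] at this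
  exact ⟨pm_flip (h1.trans hjj), h2.trans hjj⟩

namespace Loc

variable {R H : Subgroup (GL ι F)} {u : Fˣ} (L : Loc R H u) (X : Sym R u)
include L X

theorem norm_of_fix_mem {g j : GL ι F} (hg : g ∈ H) (hj : j ∈ R) (hs : ¬ Scal j) (h : PM (g * j * g⁻¹) j) :
    g ∈ normalizer (R : Set (GL ι F)) := by
  obtain ⟨c, -, hi⟩ := X.scale hj hs
  refine L.pm_fix X hg hi ?_
  rw [show g * (sc c * j) * g⁻¹ = sc c * (g * j * g⁻¹) by rw [← mul_assoc g, ← (commute_sc c g).eq]; group]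
  exact (PM.refl _).mul h

theorem even_mem {z g : GL ι F} (hz : IQ R z) (hg : g ∈ H) (hgg : g * g = 1) {k : ℕ}
    (hn : PM ((z * g) ^ (2 * (k + k))) 1) (hm : ¬ PM ((z * g) ^ (k + k)) 1) :
    (z * g) ^ (k + k) ∈ R ∧ ¬ Scal ((z * g) ^ (k + k)) := by
  have hzH := L.sub hz.1
  have hjH : (z * g) ^ (k + k) ∈ H := pow_mem (mul_mem hzH hg) _
  have hxH : (z * g) ^ k ∈ H := pow_mem (mul_mem hzH hg) _
  have hjN := L.pm_fix X hjH hz (middle hz.2.1 hgg hn).1
  have h1 := (dihedral_even hz.2.1 (Or.inl hgg) k).1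
  set x := (z * g) ^ k
  set j := (z * g) ^ (k + k)
  have hxN : x ∈ normalizer (R : Set (GL ι F)) := L.ufix X hxH hz
    (h1.mem (le_normalizer X.neg) (mul_mem hjN (le_normalizer hz.1)))
  have hj : j ∈ R := by
    have := mul_mem (X.mem_pm h1.symm ((Subgroup.mem_normalizer_iff.1 hxN z).1 hz.1)) hz.1
    rwa [mul_assoc, hz.2.1, mul_one] at this
  refine ⟨hj, X.nonscal hz.2.1 (y := x * z * x⁻¹) ?_ hj hm fun hs => by rwa [← (hs.commute z).eq]⟩
  rw [show x * z * x⁻¹ * (x * z * x⁻¹) = x * (z * z) * x⁻¹ by group, hz.2.1, mul_one, mul_inv_cancel]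

variable [Finite F]

/-- An involution of another conjugate is conjugate, up to sign, to an involution of `R`. -/
theorem dihedral {z e h : GL ι F} (hz : IQ R z) (he : IQ R e) (hh : h ∈ H)
    (hN : h ∉ normalizer (R : Set (GL ι F))) :
    ∃ k : ℕ, PM ((z * (h * e * h⁻¹)) ^ k * z * ((z * (h * e * h⁻¹)) ^ k)⁻¹) (h * e * h⁻¹) := by
  set g := h * e * h⁻¹ with hg
  have hgH : g ∈ H := mul_mem (mul_mem hh (L.sub he.1)) (inv_mem hh)
  have hgg : g * g = 1 := by
    rw [hg, show h * e * h⁻¹ * (h * e * h⁻¹) = h * (e * e) * h⁻¹ by group, he.2.1, mul_one, mul_inv_cancel]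
  obtain ⟨n, hn0, hn, hmin⟩ := exists_order (z * g)
  rcases Nat.even_or_odd' n with ⟨m, rfl | rfl⟩
  · exfalso
    have hm : ¬ PM ((z * g) ^ m) 1 := hmin m (by omega) (by omega)
    suffices hj : (z * g) ^ m ∈ R ∧ ¬ Scal ((z * g) ^ m) by
      exact hN (L.ufix X hh he (L.norm_of_fix_mem X hgH hj.1 hj.2 (middle hz.2.1 hgg hn).2))
    rcases Nat.even_or_odd' m with ⟨k, rfl | rfl⟩
    · rw [two_mul k] at hn hm ⊢
      exact L.even_mem X hz hgH hgg hn hm
    · have hjN := L.pm_fix X (pow_mem (mul_mem (L.sub hz.1) hgH) (2 * k + 1)) hz (middle hz.2.1 hgg hn).1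
      have h1 := dihedral_odd hz.2.1 (Or.inl hgg) k
      set x := (z * g) ^ k with hx
      have hxH : x ∈ H := pow_mem (mul_mem (L.sub hz.1) hgH) k
      set j := (z * g) ^ (2 * k + 1)
      have e1 : x⁻¹ * g * x = x⁻¹ * h * e * (x⁻¹ * h)⁻¹ := by rw [hg]; group
      have hN' : x⁻¹ * h ∈ normalizer (R : Set (GL ι F)) := L.ufix X (mul_mem (inv_mem hxH) hh) he
        (e1 ▸ h1.mem (le_normalizer X.neg) (mul_mem (le_normalizer hz.1) hjN))
      have h2 : x⁻¹ * g * x ∈ R := e1 ▸ (Subgroup.mem_normalizer_iff.1 hN' e).1 he.1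
      have hj : j ∈ R := (Subgroup.mul_mem_cancel_left _ hz.1).1 (X.mem_pm h1.symm h2)
      refine ⟨hj, X.nonscal hz.2.1 (y := x⁻¹ * g * x) ?_ hj hm fun _ => h1⟩
      rw [show x⁻¹ * g * x * (x⁻¹ * g * x) = x⁻¹ * (g * g) * x by group, hgg, mul_one, inv_mul_cancel]
  · refine ⟨m, ?_⟩
    have h1 := (dihedral_odd hz.2.1 (Or.inl hgg) m).trans ((PM.refl z).mul hn)
    rw [mul_one] at h1
    have h2 := h1.symm.conj ((z * g) ^ m)
    rwa [show (z * g) ^ m * (((z * g) ^ m)⁻¹ * g * (z * g) ^ m) * ((z * g) ^ m)⁻¹ = g by group] at h2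

/-- An involution of the normaliser centralising two suitable involutions fuses only inside it. -/
theorem no_share {j u₁ u₂ a h : GL ι F} (hjj : j * j = 1)
    (h1 : IQ R u₁) (h2 : IQ R u₂) (c1 : Commute u₁ j) (c2 : Commute u₂ j) (ha : a ∈ R)
    (hu₁ : PM u₁ (j * a * j⁻¹ * a⁻¹)) (hu₂ : ∀ r ∈ R, ¬ PM u₂ (j * r * j⁻¹ * r⁻¹)) (hh : h ∈ H)
    (hn : h⁻¹ * j * h ∈ normalizer (R : Set (GL ι F))) : h ∈ normalizer (R : Set (GL ι F)) := by
  by_contra hN
  obtain ⟨e, he, hej⟩ := X.exists_iq_cent hn (by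
    rw [show h⁻¹ * j * h * (h⁻¹ * j * h) = h⁻¹ * (j * j) * h by group, hjj, mul_one, inv_mul_cancel])
  obtain ⟨k₁, hk₁⟩ := L.dihedral X h1 he hh hN
  obtain ⟨k₂, hk₂⟩ := L.dihedral X h2 he hh hN
  set g := h * e * h⁻¹ with hg
  have hgj : Commute g j := by
    have := hej.map (MulAut.conj h).toMonoidHom
    simpa [hg, mul_assoc] using this
  have hgH : g ∈ H := mul_mem (mul_mem hh (L.sub he.1)) (inv_mem hh)
  set x₁ := (u₁ * g) ^ k₁
  set x₂ := (u₂ * g) ^ k₂
  set x := x₂⁻¹ * x₁ with hx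
  have hxH : x ∈ H := mul_mem (inv_mem (pow_mem (mul_mem (L.sub h2.1) hgH) _))
    (pow_mem (mul_mem (L.sub h1.1) hgH) _)
  have hxj : Commute x j := (((c2.mul_left hgj).pow_left k₂).inv_left).mul_left ((c1.mul_left hgj).pow_left k₁)
  have hxu : PM (x * u₁ * x⁻¹) u₂ := by
    have := (hk₁.trans hk₂.symm).conj x₂⁻¹
    rwa [show x₂⁻¹ * (x₁ * u₁ * x₁⁻¹) * x₂⁻¹⁻¹ = x * u₁ * x⁻¹ by rw [hx]; group,
      show x₂⁻¹ * (x₂ * u₂ * x₂⁻¹) * x₂⁻¹⁻¹ = u₂ by group] at this
  have hxN : x ∈ normalizer (R : Set (GL ι F)) := L.ufix X hxH h1 (le_normalizer (X.mem_pm hxu h2.1))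
  refine hu₂ _ ((Subgroup.mem_normalizer_iff.1 hxN a).1 ha) (hxu.symm.trans ?_)
  have e2 : j = x * j * x⁻¹ := by rw [hxj.eq, mul_inv_cancel_right]
  have := hu₁.conj x
  rwa [show x * (j * a * j⁻¹ * a⁻¹) * x⁻¹ =
    (x * j * x⁻¹) * (x * a * x⁻¹) * (x * j * x⁻¹)⁻¹ * (x * a * x⁻¹)⁻¹ by group, ← e2] at this

theorem no_share_sEl {a b z₀ h : GL ι F} (P : Pair R a b) (hz₀ : z₀ ∈ R) (hzz : z₀ * z₀ = 1)
    (za : Commute z₀ a) (zb : Commute z₀ b) (hh : h ∈ H)
    (hn : h⁻¹ * (z₀ * sEl u a b) * h ∈ normalizer (R : Set (GL ι F))) :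
    h ∈ normalizer (R : Set (GL ι F)) := by
  set s := sEl u a b with hs
  obtain ⟨r₀, hr₀, r₀a, r₀b⟩ := P.ind
  obtain ⟨w, hw, wa, wb, wz, r, hr, ra, rb, rw'⟩ := X.exists_out P.ha.1 P.hb.1 hz₀ P.ha.1 P.hb.1
  have scomm : ∀ {g : GL ι F}, Commute g a → Commute g b → Commute g s := fun {g} ga gb =>
    ((X.tau_commute P.ha.2.1 ga).mul_right (X.tau_commute P.hb.2.1 gb)).mul_right
      (X.tau_commute (X.pair_prod P).2.1 (ga.mul_right gb)).inv_right
  have zs := scomm za zb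
  have key : ∀ {x c : GL ι F}, x ∈ R → s * x * s⁻¹ = c * x → Commute z₀ c →
      PM c ((z₀ * s) * x * (z₀ * s)⁻¹ * x⁻¹) := fun {x c} hx e zc => by
    rw [show z₀ * s * x * (z₀ * s)⁻¹ * x⁻¹ = z₀ * (s * x * s⁻¹) * z₀⁻¹ * x⁻¹ by group, e,
      ← mul_assoc z₀ c x, zc.eq, mul_assoc c z₀ x]
    rcases X.comm z₀ hz₀ x hx with h1 | h1
    · exact Or.inl (by rw [h1.eq]; group)
    · refine Or.inr ?_
      rw [show z₀ * x = -(x * z₀) from h1, mul_neg, neg_mul, neg_mul, neg_neg]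
      group
  refine L.no_share X ?_ P.ha hw (za.symm.mul_right (scomm (Commute.refl a) P.com))
    (wz.mul_right (scomm wa wb)) hr₀ (key hr₀ (X.sEl_anti_right P r₀a r₀b) za) ?_ hh hn
  · rw [zs.symm.mul_mul_mul_comm, hzz, X.sEl_sq P, one_mul]
  · intro x hx hp
    suffices hc : ∃ c, PM c ((z₀ * s) * x * (z₀ * s)⁻¹ * x⁻¹) ∧ Commute r c by
      obtain ⟨c, hc1, hc2⟩ := hc
      rcases hp.trans hc1.symm with e | e
      · rw [e] at rw'; exact X.not_anti hc2 rw'
      · rw [e] at rw'; exact X.not_anti hc2.neg_right rw'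
    rcases X.sEl_cases P hx with ⟨-, -, e⟩ | ⟨c, hc, e⟩
    · exact ⟨1, key hx (by rw [one_mul]; exact e) (Commute.one_right _), Commute.one_right _⟩
    · rcases hc with rfl | rfl | rfl
      · exact ⟨_, key hx e za, ra⟩
      · exact ⟨_, key hx e zb, rb⟩
      · exact ⟨_, key hx e (zb.mul_right za).neg_right, (rb.mul_right ra).neg_right⟩

/-- An overgroup with the local property normalises `R`. -/
theorem normalizes : H ≤ normalizer (R : Set (GL ι F)) := by
  intro h hh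
  by_contra hN
  obtain ⟨a, b, P⟩ := X.exists_pair
  set s := sEl u a b with hsdef
  have sH : s ∈ H := mul_mem (mul_mem (L.tau_mem a P.ha) (L.tau_mem b P.hb))
    (inv_mem (L.tau_mem _ (X.pair_prod P)))
  set g := h * s * h⁻¹ with hg
  have hgH : g ∈ H := mul_mem (mul_mem hh sH) (inv_mem hh)
  have hgg : g * g = 1 := by
    rw [hg, show h * s * h⁻¹ * (h * s * h⁻¹) = h * (s * s) * h⁻¹ by group, X.sEl_sq P, mul_one, mul_inv_cancel]
  have share : ∀ {n : GL ι F}, n ∈ H → n * s * n⁻¹ ∈ normalizer (R : Set (GL ι F)) →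
      n ∈ normalizer (R : Set (GL ι F)) := fun {n} hn h' => by
    have := L.no_share_sEl X P (one_mem R) (one_mul 1) (Commute.one_left a) (Commute.one_left b) (inv_mem hn)
      (by rw [inv_inv, one_mul]; exact h')
    exact inv_mem_iff.1 this
  obtain ⟨z, hz⟩ := X.exists_iq
  obtain ⟨n, hn0, hn, hmin⟩ := exists_order (z * g)
  rcases Nat.even_or_odd' n with ⟨m, rfl | rfl⟩
  · have hm : ¬ PM ((z * g) ^ m) 1 := hmin m (by omega) (by omega)
    rcases Nat.even_or_odd' m with ⟨k, rfl | rfl⟩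
    · rw [two_mul k] at hn hm
      obtain ⟨hj, hjs⟩ := L.even_mem X hz hgH hgg hn hm
      exact hN (share hh (L.norm_of_fix_mem X hgH hj hjs (middle hz.2.1 hgg hn).2))
    · have hjN := L.pm_fix X (pow_mem (mul_mem (L.sub hz.1) hgH) (2 * k + 1)) hz (middle hz.2.1 hgg hn).1
      have hzj : PM (z * (z * g) ^ (2 * k + 1) * z⁻¹) ((z * g) ^ (2 * k + 1)) :=
        pm_flip (middle hz.2.1 hgg hn).1
      have h1 := dihedral_odd hz.2.1 (Or.inl hgg) k
      have hcx : Commute ((z * g) ^ k) ((z * g) ^ (2 * k + 1)) := Commute.pow_pow_self _ _ _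
      set x := (z * g) ^ k with hx
      have hxH : x ∈ H := pow_mem (mul_mem (L.sub hz.1) hgH) k
      set j := (z * g) ^ (2 * k + 1)
      set n₀ := x⁻¹ * h with hn₀
      have hn₀H : n₀ ∈ H := mul_mem (inv_mem hxH) hh
      have e1 : x⁻¹ * g * x = n₀ * s * n₀⁻¹ := by rw [hg, hn₀]; group
      rw [e1] at h1
      have hn₀N := share hn₀H (h1.mem (le_normalizer X.neg) (mul_mem (le_normalizer hz.1) hjN))
      set z₀ := n₀⁻¹ * z * n₀ with hz₀
      have hz₀R : z₀ ∈ R := by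
        have := (Subgroup.mem_normalizer_iff.1 (inv_mem hn₀N) z).1 hz.1
        rwa [inv_inv] at this
      have hz₀z : z₀ * z₀ = 1 := by
        rw [hz₀, show n₀⁻¹ * z * n₀ * (n₀⁻¹ * z * n₀) = n₀⁻¹ * (z * z) * n₀ by group, hz.2.1, mul_one, inv_mul_cancel]
      -- `n₀` maps `z₀ s` to `±j`
      have ht : PM (n₀ * (z₀ * s) * n₀⁻¹) j := by
        have := (PM.refl z).mul h1
        rwa [← mul_assoc z z j, hz.2.1, one_mul,
          show z * (n₀ * s * n₀⁻¹) = n₀ * (z₀ * s) * n₀⁻¹ by rw [hz₀]; group] at this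
      have hz₀s : PM (s * z₀ * s⁻¹) z₀ := by
        refine pm_flip ?_
        have h2 : PM (z * (n₀ * (z₀ * s) * n₀⁻¹) * z⁻¹) (n₀ * (z₀ * s) * n₀⁻¹) :=
          (ht.conj z).trans (hzj.trans ht.symm)
        have h3 := h2.conj n₀⁻¹
        rw [show n₀⁻¹ * (z * (n₀ * (z₀ * s) * n₀⁻¹) * z⁻¹) * n₀⁻¹⁻¹ = z₀ * (z₀ * s) * z₀⁻¹ by rw [hz₀]; group,
          show n₀⁻¹ * (n₀ * (z₀ * s) * n₀⁻¹) * n₀⁻¹⁻¹ = z₀ * s by group, mul_assoc z₀ (z₀ * s),
          mul_assoc z₀ s] at h3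
        have h4 := (PM.refl z₀⁻¹).mul h3
        rwa [inv_mul_cancel_left, inv_mul_cancel_left, ← mul_assoc] at h4
      obtain ⟨za, zb⟩ : Commute z₀ a ∧ Commute z₀ b := by
        rcases X.sEl_cases P hz₀R with ⟨h5, h6, -⟩ | ⟨c, hc, e⟩
        · exact ⟨h5, h6⟩
        exfalso
        rw [← hsdef] at e
        rw [e] at hz₀s
        have hc1 := hz₀s.mul (PM.refl z₀⁻¹)
        rw [mul_inv_cancel_right, mul_inv_cancel] at hc1
        have hcs : Scal c := by rcases hc1 with rfl | rfl; exacts [scal_one, scal_one.neg]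
        rcases hc with rfl | rfl | rfl
        · exact P.ha.2.2 hcs
        · exact P.hb.2.2 hcs
        · refine (X.pair_prod P).2.2 ?_
          have := hcs.neg
          rwa [neg_neg, ← P.com.eq] at this
      have hw : PM ((h⁻¹ * n₀) * (z₀ * s) * (h⁻¹ * n₀)⁻¹) (z₀ * s) := by
        have h5 := (ht.conj x).trans (show PM (x * j * x⁻¹) j by rw [hcx.eq, mul_inv_cancel_right]; exact PM.refl j)
        have h6 := (ht.trans h5.symm).conj h⁻¹
        rwa [show h⁻¹ * (n₀ * (z₀ * s) * n₀⁻¹) * h⁻¹⁻¹ = h⁻¹ * n₀ * (z₀ * s) * (h⁻¹ * n₀)⁻¹ by group,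
          show h⁻¹ * (x * (n₀ * (z₀ * s) * n₀⁻¹) * x⁻¹) * h⁻¹⁻¹ = z₀ * s by rw [hn₀]; group] at h6
      have hfix := L.no_share_sEl X P hz₀R hz₀z za zb (inv_mem (mul_mem (inv_mem hh) hn₀H)) (by
        rw [inv_inv]
        refine hw.mem (le_normalizer X.neg) (mul_mem (le_normalizer hz₀R) ?_)
        exact mul_mem (mul_mem (X.tau_norm P.ha) (X.tau_norm P.hb)) (inv_mem (X.tau_norm (X.pair_prod P))))
      have := mul_mem (inv_mem_iff.1 hfix) (inv_mem hn₀N)
      rw [mul_inv_cancel_right] at this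
      exact hN (inv_mem_iff.1 this)
  · -- conjugate involutions have traces equal up to sign
    have h1 := (dihedral_odd hz.2.1 (Or.inl hgg) m).trans ((PM.refl z).mul hn)
    rw [mul_one, hg] at h1
    set x := (z * (h * s * h⁻¹)) ^ m
    rw [show x⁻¹ * (h * s * h⁻¹) * x = (x⁻¹ * h) * s * (x⁻¹ * h)⁻¹ by group] at h1
    refine X.sEl_trace P ?_
    rw [← Matrix.trace_units_conj (x⁻¹ * h) (s : Matrix ι ι F), ← Units.val_mul, ← Units.val_mul]
    rcases h1 with e | e <;> simp only [e, Units.val_neg, Matrix.trace_neg, X.trace_eq_zero hz.1 hz.2.2, neg_zero]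

end Loc

end CfsgLib.MaxSub.QuadTwo
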