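import Cfsg.Agent.Lib.MaxSub.Extra.Quad.Fusion

/-!
Coordinates in which two anticommuting involutions are a diagonal and a permutation matrix, and transport of
structure along them.
-/

set_option autoImplicit false

namespace CfsgLib.MaxSub.QuadTwo

open Matrix Subgroup Module CfsgLib.PauliFour CfsgLib.MaxSub.Extra

variable {F : Type*} [Field F] {ι : Type} [Fintype ι] [DecidableEq ι]

/-- Two anticommuting involutions split the space into halves. -/
theorem exists_split {k : ℕ} (hcard : Fintype.card ι = 2 * k) (h2 : (2 : F) ≠ 0) {g r : GL ι F}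
    (hg : g * g = 1) (hr : r * r = 1) (ha : Anti r g) :
    ∃ Ψ : Matrix ι ι F ≃ₐ[F] Matrix (Fin k ⊕ Fin k) (Fin k ⊕ Fin k) F,
      (∀ M, (Ψ M).det = M.det) ∧ Ψ g = fromBlocks 1 0 0 (-1) ∧ Ψ r = fromBlocks 0 1 1 0 := by
  let G : (ι → F) →ₗ[F] (ι → F) := Matrix.toLin' (g : Matrix ι ι F)
  let T : (ι → F) →ₗ[F] (ι → F) := Matrix.toLin' (r : Matrix ι ι F)
  have GG : ∀ v, G (G v) = v := fun v => by
    simp only [G, Matrix.toLin'_apply, mulVec_mulVec, ← Units.val_mul, hg, Units.val_one, one_mulVec]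
  have TT : ∀ v, T (T v) = v := fun v => by
    simp only [T, Matrix.toLin'_apply, mulVec_mulVec, ← Units.val_mul, hr, Units.val_one, one_mulVec]
  have GT : ∀ v, G (T v) = -T (G v) := fun v => by
    simp only [G, T, Matrix.toLin'_apply, mulVec_mulVec, ← Units.val_mul,
      show g * r = -(r * g) from ha.symm, Units.val_neg, neg_mulVec]
  let Vp : Submodule F (ι → F) := LinearMap.ker (G - LinearMap.id)
  have mem : ∀ v, v ∈ Vp ↔ G v = v := fun v => by simp [Vp, sub_eq_zero]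
  have hp : ∀ v, (2 : F)⁻¹ • (v + G v) ∈ Vp := fun v => by
    rw [mem, map_smul, map_add, GG, add_comm]
  have hm : ∀ v, T ((2 : F)⁻¹ • (v - G v)) ∈ Vp := fun v => by
    rw [mem, GT, map_smul G, map_sub G, GG, ← map_neg T, ← smul_neg, neg_sub]
  let Φ₀ : (Vp × Vp) ≃ₗ[F] (ι → F) :=
    { toFun := fun x => (x.1 : ι → F) + T (x.2 : ι → F)
      map_add' := fun x y => by simp only [Prod.fst_add, Prod.snd_add, Submodule.coe_add, map_add]; abel
      map_smul' := fun c x => by simp [smul_add]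
      invFun := fun v => (⟨_, hp v⟩, ⟨_, hm v⟩)
      left_inv := fun x => by
        have e1 := (mem _).1 x.1.2
        have e2 := (mem _).1 x.2.2
        have e3 : G (T (x.2 : ι → F)) = -T (x.2 : ι → F) := by rw [GT, e2]
        refine Prod.ext (Subtype.ext ?_) (Subtype.ext ?_)
        · show (2 : F)⁻¹ • ((x.1 : ι → F) + T x.2 + G (x.1 + T x.2)) = x.1
          rw [map_add, e1, e3]
          match_scalars <;> field_simp <;> ring
        · show T ((2 : F)⁻¹ • ((x.1 : ι → F) + T x.2 - G (x.1 + T x.2))) = x.2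
          rw [map_add G, e1, e3, show (2 : F)⁻¹ • ((x.1 : ι → F) + T x.2 - (x.1 + -T x.2)) = T x.2 by
            match_scalars <;> field_simp <;> ring, TT]
      right_inv := fun v => by
        show (2 : F)⁻¹ • (v + G v) + T (T ((2 : F)⁻¹ • (v - G v))) = v
        rw [TT]
        match_scalars <;> field_simp <;> ring }
  have hrank : finrank F Vp = k := by
    have := Φ₀.finrank_eq
    rw [Module.finrank_prod, Module.finrank_fintype_fun_eq_card, hcard] at this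
    omega
  let B : (Fin k → F) ≃ₗ[F] Vp := LinearEquiv.ofFinrankEq _ _ (by rw [Module.finrank_fintype_fun_eq_card, Fintype.card_fin, hrank])
  let Φ : (Fin k ⊕ Fin k → F) ≃ₗ[F] (ι → F) :=
    ((LinearEquiv.sumArrowLequivProdArrow (Fin k) (Fin k) F F).trans (B.prodCongr B)).trans Φ₀
  have hΦ : ∀ x, Φ x = (B (x ∘ Sum.inl) : ι → F) + T (B (x ∘ Sum.inr) : ι → F) := fun x => rfl
  let Ψ : Matrix ι ι F ≃ₐ[F] Matrix (Fin k ⊕ Fin k) (Fin k ⊕ Fin k) F :=
    (Matrix.toLinAlgEquiv'.trans (Φ.symm.conjAlgEquiv F)).trans LinearMap.toMatrixAlgEquiv'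
  have hΨ : ∀ M, Ψ M = LinearMap.toMatrix' (Φ.symm.toLinearMap ∘ₗ Matrix.toLin' M ∘ₗ Φ.toLinearMap) := fun M => rfl
  refine ⟨Ψ, fun M => ?_, ?_, ?_⟩
  · rw [hΨ, LinearMap.det_toMatrix', ← LinearMap.det_toLin' M]
    exact LinearMap.det_conj (Matrix.toLin' M) Φ.symm
  · rw [hΨ, ← LinearMap.toMatrix'_toLin' (fromBlocks (1 : Matrix (Fin k) (Fin k) F) 0 0 (-1))]
    congr 1
    refine LinearMap.ext fun x => Φ.injective ?_
    simp only [LinearMap.comp_apply, LinearEquiv.coe_coe, LinearEquiv.apply_symm_apply, Matrix.toLin'_apply]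
    show G (Φ x) = _
    rw [hΦ, hΦ, map_add, (mem _).1 (B (x ∘ Sum.inl)).2, GT, (mem _).1 (B (x ∘ Sum.inr)).2, fromBlocks_mulVec]
    simp [neg_mulVec]
  · rw [hΨ, ← LinearMap.toMatrix'_toLin' (fromBlocks (0 : Matrix (Fin k) (Fin k) F) 1 1 0)]
    congr 1
    refine LinearMap.ext fun x => Φ.injective ?_
    simp only [LinearMap.comp_apply, LinearEquiv.coe_coe, LinearEquiv.apply_symm_apply, Matrix.toLin'_apply]
    show T (Φ x) = _
    rw [hΦ, hΦ, map_add, TT, fromBlocks_mulVec, add_comm]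
    simp

variable {κ : Type} [Fintype κ] [DecidableEq κ]

/-- The isomorphism of unit groups induced by an isomorphism of matrix algebras. -/
def glEquiv (Ψ : Matrix ι ι F ≃ₐ[F] Matrix κ κ F) : GL ι F ≃* GL κ F := Units.mapEquiv Ψ.toMulEquiv

@[simp] theorem coe_glEquiv (Ψ : Matrix ι ι F ≃ₐ[F] Matrix κ κ F) (g : GL ι F) :
    (glEquiv Ψ g : Matrix κ κ F) = Ψ g := rfl

theorem glEquiv_neg (Ψ : Matrix ι ι F ≃ₐ[F] Matrix κ κ F) (g : GL ι F) : glEquiv Ψ (-g) = -glEquiv Ψ g :=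
  Units.ext (by simp)

theorem glEquiv_sc (Ψ : Matrix ι ι F ≃ₐ[F] Matrix κ κ F) (c : Fˣ) : glEquiv Ψ (sc c) = sc c :=
  Units.ext (by simp)

theorem glEquiv_scal (Ψ : Matrix ι ι F ≃ₐ[F] Matrix κ κ F) {g : GL ι F} : Scal (glEquiv Ψ g) ↔ Scal g := by
  constructor <;> rintro ⟨c, hc⟩
  · exact ⟨c, (glEquiv Ψ).injective (hc.trans (glEquiv_sc Ψ c).symm)⟩
  · exact ⟨c, by rw [hc, glEquiv_sc]⟩

theorem mem_map_glEquiv {Ψ : Matrix ι ι F ≃ₐ[F] Matrix κ κ F} {R : Subgroup (GL ι F)} {g : GL ι F} :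
    glEquiv Ψ g ∈ R.map (glEquiv Ψ).toMonoidHom ↔ g ∈ R :=
  ⟨fun ⟨y, hy, e⟩ => (glEquiv Ψ).injective e ▸ hy, fun h => ⟨g, h, rfl⟩⟩

theorem Sym.map {R : Subgroup (GL ι F)} {u : Fˣ} (X : Sym R u) (Ψ : Matrix ι ι F ≃ₐ[F] Matrix κ κ F)
    (hκ : Fintype.card κ = Fintype.card ι) : Sym (R.map (glEquiv Ψ).toMonoidHom) u where
  two := X.two
  ncard := hκ ▸ X.ncard
  fin := by
    haveI := X.fin
    exact Finite.of_equiv _ (R.equivMapOfInjective _ (glEquiv Ψ).injective).toEquiv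
  iu := X.iu
  unit := ⟨sc u, X.unit, glEquiv_sc Ψ u⟩
  comm := by
    rintro _ ⟨x, hx, rfl⟩ _ ⟨y, hy, rfl⟩
    rcases X.comm x hx y hy with h | h
    · exact Or.inl (h.map (glEquiv Ψ))
    · refine Or.inr ?_
      show glEquiv Ψ x * glEquiv Ψ y = -(glEquiv Ψ y * glEquiv Ψ x)
      rw [← map_mul, ← map_mul, ← glEquiv_neg, show x * y = -(y * x) from h]
  sq := by
    rintro _ ⟨x, hx, rfl⟩
    show PM (glEquiv Ψ x * glEquiv Ψ x) 1
    rw [← map_mul]
    rcases X.sq x hx with e | e <;> rw [e]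
    · exact Or.inl (map_one _)
    · exact Or.inr (by rw [glEquiv_neg, map_one])
  irr M hM := by
    obtain ⟨c, hc⟩ := X.irr (Ψ.symm M) fun s hs => Ψ.injective (by
      rw [map_mul, map_mul, AlgEquiv.apply_symm_apply]
      exact hM (glEquiv Ψ s) ⟨s, hs, rfl⟩)
    exact ⟨c, by rw [← Ψ.apply_symm_apply M, hc, map_smul, map_one]⟩
  order := by
    rw [show Nat.card (R.map (glEquiv Ψ).toMonoidHom) = Nat.card R from
      (Nat.card_congr (R.equivMapOfInjective _ (glEquiv Ψ).injective).toEquiv).symm]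
    exact X.order

theorem IQ.map {R : Subgroup (GL ι F)} {z : GL ι F} (h : IQ R z) (Ψ : Matrix ι ι F ≃ₐ[F] Matrix κ κ F) :
    IQ (R.map (glEquiv Ψ).toMonoidHom) (glEquiv Ψ z) :=
  ⟨mem_map_glEquiv.2 h.1, by rw [← map_mul, h.2.1, map_one], fun hs => h.2.2 ((glEquiv_scal Ψ).1 hs)⟩

theorem map_normalizer {R : Subgroup (GL ι F)} (Ψ : Matrix ι ι F ≃ₐ[F] Matrix κ κ F) {g : GL ι F} :
    glEquiv Ψ g ∈ normalizer ((R.map (glEquiv Ψ).toMonoidHom : Subgroup (GL κ F)) : Set (GL κ F)) ↔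
      g ∈ normalizer (R : Set (GL ι F)) := by
  simp only [Subgroup.mem_normalizer_iff]
  refine ⟨fun h x => ?_, fun h y => ?_⟩
  · have := h (glEquiv Ψ x)
    simpa [← map_mul, ← map_inv] using this
  · obtain ⟨x, rfl⟩ := (glEquiv Ψ).surjective y
    have := h x
    simpa [← map_mul, ← map_inv] using this

end CfsgLib.MaxSub.QuadTwo
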