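import Cfsg.Agent.Lib.MaxSub.Extra.Quad.Step
import Cfsg.Agent.Lib.Aschbacher.SympTwoGroup

/-!
The normaliser of a group `4 ∘ 2^(1+6)` is maximal in `SL₈(p)`.
-/

set_option autoImplicit false

namespace CfsgLib.MaxSub.QuadTwo

open Matrix Subgroup CfsgLib.PauliFour CfsgLib.MaxSub.Extra Cfsg.Geo

variable {F : Type*} [Field F] {ι : Type} [Fintype ι] [DecidableEq ι]

namespace Sym

variable {R : Subgroup (GL ι F)} {u : Fˣ} (X : Sym R u)
include X

/-- Block coordinates at a non-central involution. -/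
theorem exists_blocks (hcard : Fintype.card ι = 8) {z : GL ι F} (hz : IQ R z) :
    ∃ Ψ : Matrix ι ι F ≃ₐ[F] Matrix (Fin 4 ⊕ Fin 4) (Fin 4 ⊕ Fin 4) F,
      (∀ g : GL ι F, glEquiv Ψ g ∈ specialLinear (Fin 4 ⊕ Fin 4) F ↔ g ∈ specialLinear ι F) ∧
      glEquiv Ψ z = Zb ∧ Wb ∈ R.map (glEquiv Ψ).toMonoidHom := by
  obtain ⟨r, hr, hra⟩ := X.anti hz.1 hz.2.2
  obtain ⟨c, -, hw⟩ := X.scale hr (X.not_scal_of_anti hra.symm)
  obtain ⟨Ψ, hdet, hΨz, hΨw⟩ := exists_split (k := 4) hcard X.two hz.2.1 hw.2.1 (hra.symm.sc_mul c).symm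
  refine ⟨Ψ, fun g => by rw [mem_sl, mem_sl, coe_glEquiv, hdet], Units.ext ?_, ⟨_, hw.1, Units.ext ?_⟩⟩
  · rw [coe_glEquiv, hΨz, Zb, coe_emb]; simp
  · show Ψ _ = _
    rw [hΨw]; rfl

theorem glEquiv_tau {κ : Type} [Fintype κ] [DecidableEq κ] (Ψ : Matrix ι ι F ≃ₐ[F] Matrix κ κ F)
    (hκ : Fintype.card κ = Fintype.card ι) {z : GL ι F} (hz : z * z = 1) :
    glEquiv Ψ (tau u z) = tau u (glEquiv Ψ z) := by
  refine Units.ext ?_
  rw [coe_glEquiv, X.tau_coe hz, (X.map Ψ hκ).tau_coe (by rw [← map_mul, hz, map_one])]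
  simp [tauM]

theorem tau_sl (hcard : Fintype.card ι = 8) {z : GL ι F} (hz : IQ R z) :
    tau u z ∈ specialLinear ι F := by
  have hκ : Fintype.card (Fin 4 ⊕ Fin 4) = Fintype.card ι := by simp [hcard]
  obtain ⟨Ψ, hsl, hΨz, hW⟩ := X.exists_blocks hcard hz
  refine (hsl _).1 ?_
  rw [X.glEquiv_tau Ψ hκ hz.2.1, hΨz]
  exact (X.map Ψ hκ).det_tau_Zb (hΨz ▸ mem_map_glEquiv.2 hz.1) hW

theorem le_sl (hcard : Fintype.card ι = 8) : R ≤ specialLinear ι F := fun r hr => by
  have hsc : ∀ c : Fˣ, (sc c : GL ι F) ∈ R → (sc c : GL ι F) ∈ specialLinear ι F := fun c hc => by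
    haveI := X.nonempty
    rw [mem_sl, coe_sc, Matrix.det_smul, Matrix.det_one, mul_one, hcard]
    have key : (c : F) ^ 4 = 1 := by
      rcases X.scal_cases hc (scal_sc c) with (e | e) | (e | e)
      · rw [show c = 1 from sc_injective (ι := ι) (e.trans (map_one _).symm)]; simp
      · rw [show c = -1 from sc_injective (ι := ι) (e.trans (by rw [sc_neg, map_one]))]; norm_num
      · rw [show c = u from sc_injective (ι := ι) e]
        linear_combination ((u : F) * u - 1) * X.iu
      · rw [show c = -u from sc_injective (ι := ι) (e.trans (sc_neg u).symm)]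
        simp only [Units.val_neg]
        linear_combination ((u : F) * u - 1) * X.iu
    linear_combination ((c : F) ^ 4 + 1) * key
  by_cases hn : Scal r
  · obtain ⟨c, rfl⟩ := hn; exact hsc c hr
  obtain ⟨c, hc, hi⟩ := X.scale hr hn
  have h := mul_mem (X.tau_sl hcard hi) (X.tau_sl hcard hi)
  rw [X.tau_sq hi.2.1] at h
  exact (Subgroup.mul_mem_cancel_left _ (hsc c hc)).1 h

/-- The normaliser is maximal in the special linear group. -/
theorem maximal [Fintype F] (hcard : Fintype.card ι = 8) (hp : (Fintype.card F).Prime) (h256 : Nat.card R = 256) :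
    IsMaximalIn (specialLinear ι F) (subgroupNormalizer R ⊓ specialLinear ι F) := by
  have hκ : Fintype.card (Fin 4 ⊕ Fin 4) = Fintype.card ι := by simp [hcard]
  have h256' : ∀ Ψ : Matrix ι ι F ≃ₐ[F] Matrix (Fin 4 ⊕ Fin 4) (Fin 4 ⊕ Fin 4) F,
      Nat.card (R.map (glEquiv Ψ).toMonoidHom) = 256 := fun Ψ => by
    rw [← h256]; exact (Nat.card_congr (R.equivMapOfInjective _ (glEquiv Ψ).injective).toEquiv).symm
  refine ⟨lt_of_le_of_ne inf_le_right fun e => ?_, fun H hNH hHS => ?_⟩
  · obtain ⟨z, hz⟩ := X.exists_iq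
    obtain ⟨Ψ, hsl, hΨz, hW⟩ := X.exists_blocks hcard hz
    obtain ⟨g, hg, hgn⟩ := (X.map Ψ hκ).exists_not_norm (hΨz ▸ mem_map_glEquiv.2 hz.1) hW hp (h256' Ψ)
    obtain ⟨g₀, rfl⟩ := (glEquiv Ψ).surjective g
    have h : g₀ ∈ subgroupNormalizer R ⊓ specialLinear ι F := e.symm ▸ (hsl g₀).1 hg
    exact hgn ((map_normalizer Ψ).2 h.1)
  by_cases hle : specialLinear ι F ≤ H
  · exact Or.inr (le_antisymm hHS hle)
  refine Or.inl (le_antisymm (le_inf ?_ hHS) hNH)
  have L : Loc R H u :=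
    { sub := fun r hr => hNH ⟨le_normalizer hr, X.le_sl hcard hr⟩
      tau_mem := fun z hz => hNH ⟨X.tau_norm hz, X.tau_sl hcard hz⟩
      proj := fun z hz k hk kz r hr rz => by
        obtain ⟨Ψ, hsl, hΨz, hW⟩ := X.exists_blocks hcard hz
        have X' := X.map Ψ hκ
        rcases X'.local_step (hΨz ▸ mem_map_glEquiv.2 hz.1) hW hp (h256' Ψ) (H := H.map (glEquiv Ψ).toMonoidHom)
            (by rintro _ ⟨g, hg, rfl⟩; exact (hsl g).2 (hHS hg))
            (fun g hg => by
              obtain ⟨g₀, rfl⟩ := (glEquiv Ψ).surjective g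
              exact ⟨g₀, hNH ⟨(map_normalizer Ψ).1 hg.1, (hsl g₀).1 hg.2⟩, rfl⟩)
            (by rintro _ ⟨g, hg, rfl⟩; exact (hsl g).2 (X.le_sl hcard hg))
            (fun y hy => X'.tau_sl (by simp) hy) with h | h
        · refine absurd (fun g hg => ?_) hle
          exact mem_map_glEquiv.1 (h ((hsl g).2 hg))
        · obtain ⟨r', hr', r'z, e⟩ := h _ ⟨k, hk, rfl⟩ (hΨz ▸ kz.map (glEquiv Ψ)) _ ⟨r, hr, rfl⟩
            (hΨz ▸ rz.map (glEquiv Ψ))
          obtain ⟨r₀, hr₀, rfl⟩ := hr'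
          refine ⟨r₀, hr₀, ?_, Ψ.injective ?_⟩
          · refine (glEquiv Ψ).injective ?_
            rw [map_mul, map_mul, hΨz]
            exact r'z.eq
          · rw [← hΨz] at e
            simp only [MulEquiv.coe_toMonoidHom, ← map_mul, ← map_inv, coe_glEquiv] at e
            simpa [map_mul, map_add] using e }
  exact L.normalizes X

end Sym

/-- The class of groups `4 ∘ 2^(1+6)` in dimension eight. -/
theorem sl_quad_maximal [Fintype F] (h : ∃ p : ℕ, p.Prime ∧ Fintype.card F = p ∧ p % 4 = 1)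
    {R : Subgroup (GL (Fin 8) F)} (hR : IsLinearSymplecticTypeData 2 R) :
    IsMaximalIn (specialLinear (Fin 8) F) (subgroupNormalizer R ⊓ specialLinear (Fin 8) F) := by
  classical
  obtain ⟨p, hp, hF, hp4⟩ := h
  have h2 : (2 : F) ≠ 0 :=
    CfsgLib.FiniteForms.two_ne_zero_of_odd (F := F) rfl (hF ▸ hp.odd_of_ne_two (by omega))
  obtain ⟨p', e', -, -, hd⟩ := hR.field
  rcases hd with ⟨hodd, -⟩ | ⟨-, -, hZ, -, m, hm⟩ | ⟨-, -, hι, -⟩
  · exact absurd hodd (by decide)
  swap
  · rw [Fintype.card_fin] at hι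
    exact absurd hι (by norm_num)
  haveI : Finite R := Nat.finite_of_card_ne_zero (by rw [hm]; positivity)
  haveI := hR.symplecticType.pGroup
  have h4 : ∀ x : R, x ^ 4 = 1 := fun x => by
    have := Monoid.pow_exponent_eq_one x
    rwa [hR.symplecticType.exponent_eq] at this
  have hcomm := PauliFour.commutator_mem_center hR.symplecticType.pGroup h4
    hR.symplecticType.cyclic_of_characteristic (Or.inl hZ)
  have hsq := PauliFour.squares_central h4 hR.symplecticType.cyclic_of_characteristic (Or.inl hZ) hcomm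
  have irr : ∀ M : Matrix (Fin 8) (Fin 8) F, (∀ s ∈ R, M * (s : Matrix (Fin 8) (Fin 8) F) = (s : Matrix _ _ F) * M) →
      ∃ c : F, M = c • 1 := fun M hM =>
    hR.absIrred.2 M fun s hs' => by obtain ⟨g, hg, rfl⟩ := hs'; exact hM g hg
  have hscal : ∀ z : R, z ∈ Subgroup.center R → ∃ c : Fˣ, (z : GL (Fin 8) F) = sc c ∧ c ^ 4 = 1 := fun z hz => by
    obtain ⟨c, hc⟩ := irr (z : GL (Fin 8) F) fun s hs' =>
      (congrArg (fun w : R => ((w : GL (Fin 8) F) : Matrix (Fin 8) (Fin 8) F)) (Subgroup.mem_center_iff.1 hz ⟨s, hs'⟩)).symm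
    obtain ⟨v, -, hv⟩ := eq_sc_of_coe hc
    refine ⟨v, hv, sc_injective (ι := Fin 8) ?_⟩
    rw [map_pow, ← hv, map_one, ← Subgroup.coe_pow, h4 z, Subgroup.coe_one]
  -- fourth roots of unity
  choose cf hcf hcf4 using hscal
  let S : Finset F := (Polynomial.X ^ 4 - Polynomial.C (1 : F)).roots.toFinset
  have hmem : ∀ z : Subgroup.center R, (cf z.1 z.2 : F) ∈ S := fun z => by
    rw [Multiset.mem_toFinset, Polynomial.mem_roots (Polynomial.X_pow_sub_C_ne_zero (n := 4) (by norm_num) (1 : F))]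
    have := congrArg Units.val (hcf4 z.1 z.2)
    simp only [Units.val_pow_eq_pow_val, Units.val_one] at this
    simp [this]
  have finj : Function.Injective fun z : Subgroup.center R => (⟨_, hmem z⟩ : S) := fun z z' e => by
    have e' : cf z.1 z.2 = cf z'.1 z'.2 := Units.ext (congrArg (fun v : S => (v : F)) e)
    exact Subtype.ext (Subtype.ext ((hcf z.1 z.2).trans (e' ▸ (hcf z'.1 z'.2).symm)))
  have hScard : S.card ≤ 4 :=
    (Multiset.toFinset_card_le _).trans ((Polynomial.card_roots' _).trans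
      (le_of_eq (by simpa using Polynomial.natDegree_X_pow_sub_C (n := 4) (r := (1 : F)))))
  have fsurj : Function.Surjective fun z : Subgroup.center R => (⟨_, hmem z⟩ : S) := by
    haveI := Fintype.ofFinite (Subgroup.center R)
    refine ((Fintype.bijective_iff_injective_and_card _).2 ⟨finj, le_antisymm (Fintype.card_le_of_injective _ finj) ?_⟩).2
    rw [Fintype.card_coe, ← Nat.card_eq_fintype_card, hZ]; exact hScard
  obtain ⟨i, hi⟩ : IsSquare (-1 : F) := FiniteField.isSquare_neg_one_iff.2 (by rw [hF]; omega)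
  have hi0 : i ≠ 0 := fun e => by rw [e, zero_mul] at hi; exact one_ne_zero (neg_eq_zero.1 hi)
  set u : Fˣ := Units.mk0 i hi0
  have huS : (u : F) ∈ S := by
    rw [Multiset.mem_toFinset, Polynomial.mem_roots (Polynomial.X_pow_sub_C_ne_zero (n := 4) (by norm_num) (1 : F))]
    have e4 : (u : F) ^ 4 = 1 := by
      show i ^ 4 = 1
      linear_combination (1 - i * i) * hi
    simp [e4]
  obtain ⟨zu, hzu⟩ := fsurj ⟨(u : F), huS⟩
  have hu : sc u ∈ R := by
    have e : cf zu.1 zu.2 = u := Units.ext (congrArg (fun v : S => (v : F)) hzu)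
    rw [← e, ← hcf]; exact zu.1.2
  have hA := CfsgLib.Aschbacher.card_quotient_scalars (A := R) hR.absIrred fun a ha b hb => by
    exact (Cfsg.Geo.mem_scalars_iff _).2 ⟨cf _ (hcomm ⟨a, ha⟩ ⟨b, hb⟩),
      (congrArg Units.val (hcf _ (hcomm ⟨a, ha⟩ ⟨b, hb⟩))).trans (coe_sc _)⟩
  have hS : (Cfsg.Geo.scalars (Fin 8) F).subgroupOf R = Subgroup.center R := by
    ext z
    refine ⟨fun hz => Subgroup.mem_center_iff.2 fun w => Subtype.ext ?_, fun hz =>
      (Cfsg.Geo.mem_scalars_iff _).2 ⟨cf z hz, (congrArg Units.val (hcf z hz)).trans (coe_sc _)⟩⟩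
    obtain ⟨c, hc⟩ := (Cfsg.Geo.mem_scalars_iff _).1 (Subgroup.mem_subgroupOf.1 hz)
    refine Units.ext ?_
    show (w : GL (Fin 8) F).1 * (z : GL (Fin 8) F).1 = (z : GL (Fin 8) F).1 * (w : GL (Fin 8) F).1
    rw [hc, Matrix.mul_smul, Matrix.mul_one, Matrix.smul_mul, Matrix.one_mul]
  rw [hS, Fintype.card_fin] at hA
  have h256 : Nat.card R = 256 := by
    rw [Subgroup.card_eq_card_quotient_mul_card_subgroup (Subgroup.center R), hA, hZ]; norm_num
  have hsq' : ∀ a ∈ R, ∀ b ∈ R, Commute (a * a) b := fun a ha b hb => by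
    have := congrArg Subtype.val (Subgroup.mem_center_iff.1 (hsq ⟨a, ha⟩) ⟨b, hb⟩)
    simp only [pow_two, Subgroup.coe_mul] at this
    exact this.symm
  have X : Sym R u :=
    { two := h2
      ncard := by
        rw [Fintype.card_fin, show ((8 : ℕ) : F) = 2 * 2 * 2 by norm_num]
        exact mul_ne_zero (mul_ne_zero h2 h2) h2
      fin := inferInstance
      iu := hi.symm
      unit := hu
      comm := fun a ha b hb => by
        set z := (⟨a, ha⟩ * ⟨b, hb⟩ * (⟨a, ha⟩ : R)⁻¹ * (⟨b, hb⟩ : R)⁻¹ : R)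
        obtain ⟨c, hc⟩ : ∃ c, (z : GL (Fin 8) F) = sc c := ⟨_, hcf z (hcomm ⟨a, ha⟩ ⟨b, hb⟩)⟩
        have e : a * b = sc c * (b * a) := by
          rw [← hc]; show a * b = a * b * a⁻¹ * b⁻¹ * (b * a); group
        have hc2 : c * c = 1 := by
          apply sc_injective (ι := Fin 8)
          have h1 : a * a * b = b * (a * a) := (hsq' a ha b hb).eq
          have h3 : a * a * b = sc (c * c) * (b * (a * a)) := by
            calc a * a * b = a * (a * b) := mul_assoc ..
              _ = a * sc c * (b * a) := by rw [e, mul_assoc]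
              _ = sc c * (a * b) * a := by rw [← sc_comm]; group
              _ = sc c * (sc c * (b * a)) * a := by rw [e]
              _ = _ := by rw [map_mul]; group
          rw [h1] at h3
          rw [map_one]
          exact mul_eq_right.1 h3.symm
        rcases mul_self_eq_one_iff.1 (congrArg Units.val hc2) with h | h
        · left
          show a * b = b * a
          rw [e, show c = 1 from Units.ext h, map_one, one_mul]
        · right
          show a * b = -(b * a)
          rw [e, show c = -1 from Units.ext (by simpa using h), sc_neg, map_one, neg_one_mul]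
      sq := fun a ha => by
        have hc := hcf (⟨a, ha⟩ ^ 2) (hsq ⟨a, ha⟩)
        set c := cf (⟨a, ha⟩ ^ 2) (hsq ⟨a, ha⟩)
        have h1 : a * a = sc c := by rw [← hc, Subgroup.coe_pow, pow_two]
        have h3 : c * c = 1 := sc_injective (ι := Fin 8) (by
          rw [map_mul, ← h1, map_one]
          have := congrArg Subtype.val (h4 ⟨a, ha⟩)
          rw [Subgroup.coe_pow, Subgroup.coe_one] at this
          rw [← this]; simp [pow_succ, mul_assoc])
        rcases mul_self_eq_one_iff.1 (congrArg Units.val h3) with h | h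
        · exact Or.inl (by rw [h1, show c = 1 from Units.ext h, map_one])
        · exact Or.inr (by rw [h1, show c = -1 from Units.ext (by simpa using h), sc_neg, map_one])
      irr := irr
      order := h256.ge }
  exact X.maximal (Fintype.card_fin 8) (hF ▸ hp) h256

end CfsgLib.MaxSub.QuadTwo
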