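import Cfsg.Agent.Lib.MaxSub.Extra.Unique
import Cfsg.Agent.Lib.PauliFour.Basic

/-!
Symplectic-type two-groups of matrices with centre of order four: commutation, traces, centralisers.
-/

set_option autoImplicit false

namespace CfsgLib.MaxSub.QuadTwo

open Matrix Subgroup CfsgLib.PauliFour CfsgLib.MaxSub.Extra

variable {F : Type*} [Field F] {ι : Type} [Fintype ι] [DecidableEq ι]

/-- A scalar matrix. -/
def Scal (x : GL ι F) : Prop := ∃ c : Fˣ, x = sc c

/-- Anticommuting elements. -/
def Anti (x y : GL ι F) : Prop := x * y = -(y * x)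

/-- A non-central involution of `R`. -/
def IQ (R : Subgroup (GL ι F)) (z : GL ι F) : Prop := z ∈ R ∧ z * z = 1 ∧ ¬ Scal z

theorem scal_sc (c : Fˣ) : Scal (sc c : GL ι F) := ⟨c, rfl⟩

theorem sc_neg (c : Fˣ) : (sc (-c) : GL ι F) = -(sc c : GL ι F) := Units.ext (by simp)

theorem commute_sc (c : Fˣ) (g : GL ι F) : Commute (sc c) g := sc_comm c g

theorem scal_one : Scal (1 : GL ι F) := ⟨1, (map_one _).symm⟩

theorem Scal.mul {x y : GL ι F} (hx : Scal x) (hy : Scal y) : Scal (x * y) := by
  obtain ⟨c, rfl⟩ := hx; obtain ⟨d, rfl⟩ := hy; exact ⟨c * d, (map_mul _ _ _).symm⟩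

theorem Scal.inv {x : GL ι F} (hx : Scal x) : Scal x⁻¹ := by
  obtain ⟨c, rfl⟩ := hx; exact ⟨c⁻¹, (map_inv _ _).symm⟩

theorem Scal.neg {x : GL ι F} (hx : Scal x) : Scal (-x) := by
  obtain ⟨c, rfl⟩ := hx; exact ⟨-c, (sc_neg c).symm⟩

theorem Scal.commute {x : GL ι F} (hx : Scal x) (g : GL ι F) : Commute x g := by
  obtain ⟨c, rfl⟩ := hx; exact commute_sc c g

namespace Anti

variable {x y z : GL ι F}

theorem symm (h : Anti x y) : Anti y x := by
  unfold Anti at *; rw [h, neg_neg]

theorem mul_comm' (h : Anti x y) (h' : Commute x z) : Anti x (y * z) := by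
  unfold Anti at *
  rw [← mul_assoc, h, neg_mul, mul_assoc, h'.eq, ← mul_assoc]

theorem comm_mul' (h' : Commute x y) (h : Anti x z) : Anti x (y * z) := by
  unfold Anti at *
  rw [← mul_assoc, h'.eq, mul_assoc, h, mul_neg, ← mul_assoc]

theorem mul_anti (h : Anti x y) (h' : Anti x z) : Commute x (y * z) := by
  unfold Anti at *
  show x * (y * z) = _
  rw [← mul_assoc, h, neg_mul, mul_assoc, h', mul_neg, neg_neg, ← mul_assoc]

theorem conj (g : GL ι F) (h : Anti x y) : Anti (g * x * g⁻¹) (g * y * g⁻¹) := by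
  unfold Anti at *
  rw [show g * x * g⁻¹ * (g * y * g⁻¹) = g * (x * y) * g⁻¹ by group, h,
    show g * y * g⁻¹ * (g * x * g⁻¹) = g * (y * x) * g⁻¹ by group, mul_neg, neg_mul]

theorem conj_eq (h : Anti x y) : x * y * x⁻¹ = -y := by
  unfold Anti at h
  rw [h, neg_mul, mul_inv_cancel_right]

theorem inv_right (h : Anti x y) : Anti x y⁻¹ := by
  have e := congrArg (·⁻¹) h.conj_eq
  simp only [conj_inv, inv_neg] at e
  rw [mul_inv_eq_iff_eq_mul, neg_mul] at e
  exact e

theorem sc_mul (c : Fˣ) (h : Anti x y) : Anti x (sc c * y) := comm_mul' (commute_sc c x).symm h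

end Anti

/-- A two-group of symplectic type with scalar centre of order four, absolutely irreducible. -/
structure Sym (R : Subgroup (GL ι F)) (u : Fˣ) : Prop where
  two : (2 : F) ≠ 0
  ncard : (Fintype.card ι : F) ≠ 0
  fin : Finite R
  iu : (u : F) * u = -1
  unit : sc u ∈ R
  comm : ∀ x ∈ R, ∀ y ∈ R, Commute x y ∨ Anti x y
  sq : ∀ x ∈ R, PM (x * x) 1
  irr : ∀ M : Matrix ι ι F, (∀ s ∈ R, M * (s : Matrix ι ι F) = (s : Matrix ι ι F) * M) → ∃ c : F, M = c • 1
  order : 256 ≤ Nat.card R

namespace Sym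

variable {R : Subgroup (GL ι F)} {u : Fˣ} (X : Sym R u)
include X

theorem nonempty : Nonempty ι := by
  by_contra h
  rw [not_nonempty_iff] at h
  exact X.ncard (by simp)

theorem ne_neg (g : GL ι F) : g ≠ -g := by
  haveI := X.nonempty
  exact ne_neg_self X.two g

theorem not_anti {x y : GL ι F} (h : Commute x y) : ¬ Anti x y := fun h' => by
  unfold Anti at h'
  rw [h.eq] at h'
  exact X.ne_neg _ h'

theorem u_mul_u : (sc u : GL ι F) * sc u = -1 := by
  refine Units.ext ?_
  rw [Units.val_mul, coe_sc, Units.val_neg, Units.val_one, smul_mul_smul_comm, one_mul, X.iu, neg_one_smul]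

theorem neg : -1 ∈ R := X.u_mul_u ▸ mul_mem X.unit X.unit

theorem mem_neg {x : GL ι F} (h : x ∈ R) : -x ∈ R := by
  rw [← neg_one_mul]; exact mul_mem X.neg h

theorem mem_pm {x y : GL ι F} (h : PM x y) (hy : y ∈ R) : x ∈ R := h.mem X.neg hy

theorem central {x : GL ι F} (h : ∀ r ∈ R, Commute r x) : Scal x := by
  haveI := X.nonempty
  obtain ⟨c, hc⟩ := X.irr x fun s hs => congrArg Units.val (h s hs).eq.symm
  obtain ⟨v, -, hv⟩ := eq_sc_of_coe hc
  exact ⟨v, hv⟩

theorem anti {x : GL ι F} (hx : x ∈ R) (hn : ¬ Scal x) : ∃ r ∈ R, Anti r x := by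
  by_contra! hh
  exact hn (X.central fun r hr => (X.comm r hr x hx).resolve_right (hh r hr))

theorem not_scal_of_anti {x r : GL ι F} (h : Anti r x) : ¬ Scal x := fun hs =>
  X.not_anti (hs.commute r).symm h

theorem scal_cases {x : GL ι F} (hx : x ∈ R) (h : Scal x) : PM x 1 ∨ PM x (sc u) := by
  haveI := X.nonempty
  obtain ⟨c, rfl⟩ := h
  have h1 : (c : F) * c = 1 ∨ (c : F) * c = -1 := by
    rcases X.sq _ hx with e | e
    · left
      rw [← map_mul, ← map_one (sc (F := F) (ι := ι))] at e
      simpa using congrArg Units.val (sc_injective e)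
    · right
      rw [← map_mul, ← map_one (sc (F := F) (ι := ι)), ← sc_neg (ι := ι) (1 : Fˣ)] at e
      simpa using congrArg Units.val (sc_injective e)
  rcases h1 with e | e
  · refine Or.inl ?_
    rcases mul_self_eq_one_iff.1 e with e | e
    · exact Or.inl (by rw [show c = 1 from Units.ext e, map_one])
    · exact Or.inr (by rw [show c = -1 from Units.ext (by simpa using e), sc_neg, map_one])
  · refine Or.inr ?_
    rw [← X.iu] at e
    rcases mul_self_eq_mul_self_iff.1 e with e | e
    · exact Or.inl (by rw [show c = u from Units.ext e])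
    · exact Or.inr (by rw [show c = -u from Units.ext (by simpa using e), sc_neg])

/-- A non-scalar element is, up to the scalar of square `-1`, an involution. -/
theorem scale {x : GL ι F} (hx : x ∈ R) (hn : ¬ Scal x) :
    ∃ c : Fˣ, sc c ∈ R ∧ IQ R (sc c * x) := by
  rcases X.sq x hx with e | e
  · exact ⟨1, by rw [map_one]; exact one_mem R, by rw [map_one, one_mul]; exact ⟨hx, e, hn⟩⟩
  · refine ⟨u, X.unit, mul_mem X.unit hx, ?_, fun h => hn ?_⟩
    · rw [mul_assoc, ← mul_assoc x (sc u) x, ← (commute_sc u x).eq, mul_assoc, ← mul_assoc, X.u_mul_u, e, neg_mul_neg,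
        one_mul]
    · have := (scal_sc u).inv.mul h
      rwa [inv_mul_cancel_left] at this

theorem trace_eq_zero {x : GL ι F} (hx : x ∈ R) (hn : ¬ Scal x) : Matrix.trace (x : Matrix ι ι F) = 0 := by
  obtain ⟨r, -, h⟩ := X.anti hx hn
  have e := congrArg (fun g : GL ι F => Matrix.trace (g : Matrix ι ι F)) h.conj_eq
  simp only [Units.val_mul, Units.val_neg, Matrix.trace_neg] at e
  rw [Matrix.trace_units_conj] at e
  have : (2 : F) * Matrix.trace (x : Matrix ι ι F) = 0 := by
    rw [two_mul]; exact add_eq_zero_iff_eq_neg.2 e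
  exact (mul_eq_zero.1 this).resolve_left X.two

theorem half {C : Subgroup (GL ι F)} (hC : C ≤ R) {a : GL ι F} (ha : a ∈ R) :
    Nat.card C ≤ 2 * Nat.card ↥(C ⊓ centralizer {a}) := by
  classical
  haveI := X.fin
  haveI : Finite C := Finite.of_injective _ (inclusion_injective hC)
  haveI : Finite ↥(C ⊓ centralizer {a}) :=
    Finite.of_injective _ (inclusion_injective (inf_le_left : C ⊓ centralizer {a} ≤ C))
  by_cases hall : ∀ r ∈ C, Commute r a
  · rw [show C ⊓ centralizer {a} = C from inf_eq_left.2 fun r hr => mem_centralizer_singleton_iff.2 (hall r hr).eq]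
    omega
  push Not at hall
  obtain ⟨w, hw, hwa⟩ := hall
  have hw' : Anti w a := (X.comm w (hC hw) a ha).resolve_left hwa
  have hmem : ∀ r : C, ¬ Commute (r : GL ι F) a → (r : GL ι F) * w ∈ C ⊓ centralizer {a} := fun r hr =>
    ⟨mul_mem r.2 hw, mem_centralizer_singleton_iff.2
      (((X.comm r (hC r.2) a ha).resolve_left hr).symm.mul_anti hw'.symm).eq.symm⟩
  let φ : C → Bool × ↥(C ⊓ centralizer {a}) := fun r =>
    if h : Commute (r : GL ι F) a then (false, ⟨r, r.2, mem_centralizer_singleton_iff.2 h.eq⟩)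
    else (true, ⟨(r : GL ι F) * w, hmem r h⟩)
  have hφ : Function.Injective φ := fun r r' e => by
    by_cases h : Commute (r : GL ι F) a <;> by_cases h' : Commute (r' : GL ι F) a <;>
      simp [φ, h, h'] at e
    · exact Subtype.ext (Subtype.mk.inj e)
    · exact e
  have := Nat.card_le_card_of_injective φ hφ
  rwa [Nat.card_prod, show Nat.card Bool = 2 by simp] at this

theorem step {C : Subgroup (GL ι F)} (hC : C ≤ R) {x y : GL ι F} (hx : x ∈ R) (hy : y ∈ R)
    (h : ∀ c ∈ C, Commute c y → Commute c x) :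
    (∀ c ∈ C, Commute c x) ∨ ∀ c ∈ C, Commute c (x * y) := by
  by_cases hh : ∀ c ∈ C, Commute c y
  · exact Or.inl fun c hc => h c hc (hh c hc)
  push Not at hh
  obtain ⟨c₀, hc₀, hy₀⟩ := hh
  have hy₀' : Anti c₀ y := (X.comm _ (hC hc₀) y hy).resolve_left hy₀
  rcases X.comm c₀ (hC hc₀) x hx with h₀ | h₀
  · refine Or.inl fun c hc => ?_
    rcases X.comm c (hC hc) y hy with h1 | h1
    · exact h c hc h1
    · have := h _ (mul_mem hc hc₀) (h1.symm.mul_anti hy₀'.symm).symm
      rcases X.comm c (hC hc) x hx with h2 | h2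
      · exact h2
      · exact absurd this fun e => X.not_anti e (h2.symm.mul_comm' h₀.symm).symm
  · refine Or.inr fun c hc => ?_
    rcases X.comm c (hC hc) y hy with h1 | h1
    · exact (h c hc h1).mul_right h1
    · have := h _ (mul_mem hc hc₀) (h1.symm.mul_anti hy₀'.symm).symm
      rcases X.comm c (hC hc) x hx with h2 | h2
      · exact absurd this fun e => X.not_anti e (Anti.comm_mul' h2.symm h₀.symm).symm
      · exact h2.mul_anti h1

theorem gen_one {x a : GL ι F} (hx : x ∈ R) (ha : a ∈ R) (h : ∀ r ∈ R, Commute r a → Commute r x) :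
    Scal x ∨ Scal (x * a) := by
  rcases X.step le_rfl hx ha h with h1 | h1
  · exact Or.inl (X.central h1)
  · exact Or.inr (X.central h1)

theorem gen_two {x a b : GL ι F} (hx : x ∈ R) (ha : a ∈ R) (hb : b ∈ R)
    (h : ∀ r ∈ R, Commute r a → Commute r b → Commute r x) :
    Scal x ∨ Scal (x * a) ∨ Scal (x * b) ∨ Scal (x * b * a) := by
  rcases X.step (inf_le_left : R ⊓ centralizer {a} ≤ R) hx hb
      (fun c hc => h c hc.1 (mem_centralizer_singleton_iff.1 hc.2)) with h1 | h1
  · rcases X.gen_one hx ha (fun r hr hra => h1 r ⟨hr, mem_centralizer_singleton_iff.2 hra.eq⟩) with h2 | h2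
    · exact Or.inl h2
    · exact Or.inr (Or.inl h2)
  · rcases X.gen_one (mul_mem hx hb) ha (fun r hr hra => h1 r ⟨hr, mem_centralizer_singleton_iff.2 hra.eq⟩)
      with h2 | h2
    · exact Or.inr (Or.inr (Or.inl h2))
    · exact Or.inr (Or.inr (Or.inr h2))

/-- An involution commuting with three given elements and independent of two given ones. -/
theorem exists_out {p q d a b : GL ι F} (hp : p ∈ R) (hq : q ∈ R) (hd : d ∈ R) (ha : a ∈ R) (hb : b ∈ R) :
    ∃ x, IQ R x ∧ Commute x p ∧ Commute x q ∧ Commute x d ∧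
      ∃ r ∈ R, Commute r a ∧ Commute r b ∧ Anti r x := by
  classical
  let C : Subgroup (GL ι F) := R ⊓ centralizer {p} ⊓ centralizer {q} ⊓ centralizer {d}
  have hCR : C ≤ R := inf_le_left.trans (inf_le_left.trans inf_le_left)
  have hcard : 32 ≤ Nat.card C := by
    have h1 := X.half le_rfl hp
    have h2 := X.half (inf_le_left : R ⊓ centralizer {p} ≤ R) hq
    have h3 : Nat.card ↥(R ⊓ centralizer {p} ⊓ centralizer {q}) ≤ 2 * Nat.card C :=
      X.half (inf_le_left.trans inf_le_left) hd
    have := X.order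
    omega
  by_contra hh
  push Not at hh
  have hall : ∀ x ∈ C, Scal x ∨ Scal (x * a) ∨ Scal (x * b) ∨ Scal (x * b * a) := fun x hx => by
    by_cases hs : Scal x
    · exact Or.inl hs
    obtain ⟨⟨⟨hxR, hxp⟩, hxq⟩, hxd⟩ := hx
    refine X.gen_two hxR ha hb fun r hr hra hrb => ?_
    obtain ⟨c, hc, hi⟩ := X.scale hxR hs
    refine (X.comm r hr x hxR).resolve_right fun hanti => ?_
    exact hh _ hi ((commute_sc c p).mul_left (mem_centralizer_singleton_iff.1 hxp))
      ((commute_sc c q).mul_left (mem_centralizer_singleton_iff.1 hxq))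
      ((commute_sc c d).mul_left (mem_centralizer_singleton_iff.1 hxd)) r hr hra hrb (hanti.sc_mul c)
  let L₀ : List (GL ι F) := [1, -1, sc u, -(sc u : GL ι F)]
  let L : List (GL ι F) := L₀ ++ L₀.map (· * a⁻¹) ++ L₀.map (· * b⁻¹) ++ L₀.map (· * a⁻¹ * b⁻¹)
  have hL₀ : ∀ y ∈ R, Scal y → y ∈ L₀ := fun y hy hs => by
    rcases X.scal_cases hy hs with (e | e) | (e | e) <;> rw [e] <;> simp [L₀]
  have hmem : ∀ x : C, (x : GL ι F) ∈ L.toFinset := fun x => by
    rw [List.mem_toFinset]
    simp only [L, List.mem_append, List.mem_map]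
    have hxR := hCR x.2
    rcases hall x x.2 with e | e | e | e
    · exact Or.inl (Or.inl (Or.inl (hL₀ _ hxR e)))
    · exact Or.inl (Or.inl (Or.inr ⟨_, hL₀ _ (mul_mem hxR ha) e, mul_inv_cancel_right _ _⟩))
    · exact Or.inl (Or.inr ⟨_, hL₀ _ (mul_mem hxR hb) e, mul_inv_cancel_right _ _⟩)
    · refine Or.inr ⟨_, hL₀ _ (mul_mem (mul_mem hxR hb) ha) e, ?_⟩
      rw [mul_inv_cancel_right, mul_inv_cancel_right]
  have h1 := Nat.card_le_card_of_injective (fun x : C => (⟨x, hmem x⟩ : L.toFinset))
    (fun x y e => Subtype.ext (congrArg (fun v : L.toFinset => (v : GL ι F)) e))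
  rw [Nat.card_eq_finsetCard] at h1
  have h2 : L.toFinset.card ≤ 16 := (List.toFinset_card_le L).trans (by simp [L, L₀])
  omega

theorem exists_iq : ∃ a, IQ R a := by
  obtain ⟨x, hx, -⟩ := X.exists_out (one_mem R) (one_mem R) (one_mem R) (one_mem R) (one_mem R)
  exact ⟨x, hx⟩

theorem isPGroup : IsPGroup 2 R := fun x => ⟨2, Subtype.ext (by
  have := (X.sq x x.2).sq
  rw [one_mul] at this
  simpa [pow_succ, mul_assoc] using this)⟩

/-- An involution of trace zero in the normaliser anticommutes with an element of `R`. -/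
theorem anti_norm {e : GL ι F} (he : e ∈ normalizer (R : Set (GL ι F))) (hee : e * e = 1)
    (htr : Matrix.trace (e : Matrix ι ι F) = 0) : ∃ r ∈ R, Anti r e := by
  classical
  haveI := X.fin
  haveI := Fintype.ofFinite R
  haveI := X.nonempty
  set f : R → Matrix ι ι F := fun r => (((r : GL ι F) * e * (r : GL ι F)⁻¹ : GL ι F) : Matrix ι ι F) with hf
  set S := ∑ r : R, f r with hS
  have hcomm : ∀ s ∈ R, S * (s : Matrix ι ι F) = (s : Matrix ι ι F) * S := fun s hs => by
    rw [hS, Finset.mul_sum, Finset.sum_mul]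
    refine (Equiv.sum_comp (Equiv.mulLeft (⟨s, hs⟩ : R)) (fun r => f r * (s : Matrix ι ι F))).symm.trans
      (Finset.sum_congr rfl fun r _ => ?_)
    simp only [hf, Equiv.coe_mulLeft, Subgroup.coe_mul, ← Units.val_mul]
    congr 1
    group
  obtain ⟨c, hc⟩ := X.irr S hcomm
  have hS0 : S = 0 := by
    have h1 := congrArg Matrix.trace hc
    rw [hS, Matrix.trace_sum, Finset.sum_eq_zero (fun r _ => by
      rw [hf]; simp only [Units.val_mul]; rw [Matrix.trace_units_conj, htr]), Matrix.trace_smul,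
      Matrix.trace_one, smul_eq_mul] at h1
    rw [hc, (mul_eq_zero.1 h1.symm).resolve_right X.ncard, zero_smul]
  by_contra! hno
  have hx : ∀ r : R, (r : GL ι F) * e * (r : GL ι F)⁻¹ * e ∈ R := fun r => by
    rw [show (r : GL ι F) * e * (r : GL ι F)⁻¹ * e = r * (e * (r : GL ι F)⁻¹ * e) by group]
    refine mul_mem r.2 ?_
    have := (Subgroup.mem_normalizer_iff.1 he _).1 (inv_mem r.2)
    rwa [inv_eq_of_mul_eq_one_right hee] at this
  have key : ∀ r : R, Matrix.trace (f r * (e : Matrix ι ι F)) =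
      if Commute (r : GL ι F) e then (Fintype.card ι : F) else 0 := fun r => by
    simp only [hf, ← Units.val_mul]
    split_ifs with h
    · rw [h.eq, mul_inv_cancel_right, hee, Units.val_one, Matrix.trace_one]
    · refine X.trace_eq_zero (hx r) fun hs => ?_
      obtain ⟨v, hv⟩ := hs
      have h1 : (r : GL ι F) * e * (r : GL ι F)⁻¹ = sc v * e := by
        rw [← hv, mul_assoc _ e e, hee, mul_one]
      have h2 : v * v = 1 := sc_injective (ι := ι) (by
        rw [map_mul, map_one]
        calc sc v * sc v = (sc v * e) * (sc v * e) := by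
              rw [mul_assoc (sc v) e, ← mul_assoc e (sc v) e, ← (commute_sc v e).eq, mul_assoc, hee, mul_one]
          _ = _ := by rw [← h1, show (r : GL ι F) * e * (r : GL ι F)⁻¹ * (r * e * (r : GL ι F)⁻¹) =
              r * (e * e) * (r : GL ι F)⁻¹ by group, hee, mul_one, mul_inv_cancel])
      rcases mul_self_eq_one_iff.1 (congrArg Units.val h2) with e1 | e1
      · rw [show v = 1 from Units.ext e1, map_one, one_mul, mul_inv_eq_iff_eq_mul] at h1
        exact h h1
      · refine hno r r.2 ?_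
        rw [show v = -1 from Units.ext (by simpa using e1), sc_neg (ι := ι) (1 : Fˣ), map_one, neg_one_mul,
          mul_inv_eq_iff_eq_mul, neg_mul] at h1
        exact h1
  have h2 : ∑ r : R, Matrix.trace (f r * (e : Matrix ι ι F)) = 0 := by
    rw [← Matrix.trace_sum, ← Finset.sum_mul, ← hS, hS0, zero_mul, Matrix.trace_zero]
  simp only [key] at h2
  rw [Finset.sum_ite, Finset.sum_const_zero, add_zero, Finset.sum_const, nsmul_eq_mul] at h2
  refine absurd ((mul_eq_zero.1 h2).resolve_right X.ncard) ?_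
  let C : Subgroup R := (centralizer ({e} : Set (GL ι F))).subgroupOf R
  have hC : (Finset.univ.filter fun r : R => Commute (r : GL ι F) e).card = Nat.card C := by
    rw [Nat.card_eq_fintype_card, ← Fintype.card_subtype]
    exact Fintype.card_congr (Equiv.subtypeEquivRight fun r => by
      show Commute (r : GL ι F) e ↔ _
      rw [Subgroup.mem_subgroupOf, mem_centralizer_singleton_iff]
      exact Iff.rfl)
  obtain ⟨k, hk⟩ := IsPGroup.iff_card.1 (X.isPGroup.to_subgroup C)
  rw [hC, hk, Nat.cast_pow, Nat.cast_ofNat]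
  exact pow_ne_zero k X.two

/-- An involution of `R` centralised by a given involution of the normaliser. -/
theorem exists_iq_cent {z : GL ι F} (hz : z ∈ normalizer (R : Set (GL ι F))) (hzz : z * z = 1) :
    ∃ e, IQ R e ∧ Commute e z := by
  classical
  haveI := X.fin
  have hzi : z⁻¹ = z := inv_eq_of_mul_eq_one_right hzz
  by_contra hh
  push Not at hh
  have hC : ∀ x ∈ R, Commute x z → Scal x := fun x hx hc => by
    by_contra hs
    obtain ⟨c, hcR, hi⟩ := X.scale hx hs
    exact hh _ hi ((commute_sc c z).mul_left hc)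
  let τ : R → GL ι F := fun r => r * z * (r : GL ι F)⁻¹ * z
  have hτR : ∀ r : R, τ r ∈ R := fun r => by
    show (r : GL ι F) * z * (r : GL ι F)⁻¹ * z ∈ R
    rw [show (r : GL ι F) * z * (r : GL ι F)⁻¹ * z = r * (z * (r : GL ι F)⁻¹ * z) by group]
    refine mul_mem r.2 ?_
    have := (Subgroup.mem_normalizer_iff.1 hz _).1 (inv_mem r.2)
    rwa [hzi] at this
  have hτi : ∀ r : R, z * τ r * z⁻¹ = (τ r)⁻¹ := fun r => by
    simp only [τ, _root_.mul_inv_rev, inv_inv, hzi, mul_assoc, hzz, mul_one]
  have h1 : ∀ r : R, PM (τ r) 1 ∨ Anti z (τ r) := fun r => by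
    rcases X.sq _ (hτR r) with e | e
    · refine Or.inl ?_
      have hc : Commute z (τ r) := by
        have := hτi r
        rw [inv_eq_of_mul_eq_one_right e, mul_inv_eq_iff_eq_mul] at this
        exact this
      rcases X.scal_cases (hτR r) (hC _ (hτR r) hc.symm) with h | h
      · exact h
      · have := h.sq
        rw [e, X.u_mul_u] at this
        exact absurd this (X.ne_neg 1)
    · refine Or.inr ?_
      have e2 : (τ r)⁻¹ = -τ r := inv_eq_of_mul_eq_one_right (by rw [mul_neg, e, neg_neg])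
      have := hτi r
      rw [e2, mul_inv_eq_iff_eq_mul, neg_mul] at this
      exact this
  obtain ⟨y, hy⟩ : ∃ y, ∀ r : R, τ r ∈ ([1, -1, y, -y, sc u * y, -(sc u * y)] : List (GL ι F)) := by
    by_cases hall : ∀ r : R, PM (τ r) 1
    · exact ⟨1, fun r => by rcases hall r with e | e <;> rw [e] <;> simp⟩
    push Not at hall
    obtain ⟨r₀, hr₀⟩ := hall
    have ha := (h1 r₀).resolve_left hr₀
    refine ⟨τ r₀, fun r => ?_⟩
    rcases h1 r with e | e
    · rcases e with e | e <;> rw [e] <;> simp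
    · have hs := hC _ (mul_mem (hτR r) (inv_mem (hτR r₀))) (by
        have h3 : Anti z (τ r₀)⁻¹ := ha.inv_right
        exact (e.mul_anti h3).symm)
      rcases X.scal_cases (mul_mem (hτR r) (inv_mem (hτR r₀))) hs with (e1 | e1) | (e1 | e1) <;>
        rw [mul_inv_eq_iff_eq_mul] at e1 <;> rw [e1] <;> simp
  let L : List (GL ι F) := [1, -1, y, -y, sc u * y, -(sc u * y)]
  let C : Subgroup (GL ι F) := R ⊓ centralizer {z}
  haveI : Finite C := Finite.of_injective _ (inclusion_injective (inf_le_left : C ≤ R))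
  let M : List (GL ι F) := [1, -1, sc u, -(sc u : GL ι F)]
  have hC4 : Nat.card C ≤ 4 := by
    have hmem : ∀ x : C, (x : GL ι F) ∈ M.toFinset := fun x => by
      rw [List.mem_toFinset]
      rcases X.scal_cases x.2.1 (hC _ x.2.1 (mem_centralizer_singleton_iff.1 x.2.2)) with (e | e) | (e | e) <;>
        rw [e] <;> simp [M]
    have := Nat.card_le_card_of_injective (fun x : C => (⟨x, hmem x⟩ : M.toFinset))
      (fun x y e => Subtype.ext (congrArg (fun v : M.toFinset => (v : GL ι F)) e))
    rw [Nat.card_eq_finsetCard] at this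
    exact this.trans ((List.toFinset_card_le M).trans (by simp [M]))
  let pick : GL ι F → R := fun x => if h : ∃ r, τ r = x then h.choose else 1
  have hpick : ∀ r, τ (pick (τ r)) = τ r := fun r => by
    have hx : ∃ s, τ s = τ r := ⟨r, rfl⟩
    simp only [pick, dif_pos hx]
    exact hx.choose_spec
  let φ : R → C × L.toFinset := fun r => (⟨(pick (τ r) : GL ι F)⁻¹ * r,
    mul_mem (inv_mem (pick (τ r)).2 : (pick (τ r) : GL ι F)⁻¹ ∈ R) r.2, mem_centralizer_singleton_iff.2 (by
      have he : (pick (τ r) : GL ι F) * z * (pick (τ r) : GL ι F)⁻¹ = r * z * (r : GL ι F)⁻¹ :=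
        mul_right_cancel (hpick r)
      set w : GL ι F := ((pick (τ r) : R) : GL ι F)
      calc w⁻¹ * r * z = w⁻¹ * (r * z * (r : GL ι F)⁻¹) * r := by group
        _ = z * (w⁻¹ * r) := by rw [← he]; group)⟩, ⟨τ r, List.mem_toFinset.2 (hy r)⟩)
  have hφ : Function.Injective φ := fun r r' e => by
    simp only [φ, Prod.mk.injEq] at e
    obtain ⟨e1, e2⟩ := e
    have e2' : τ r = τ r' := congrArg (fun v : L.toFinset => (v : GL ι F)) e2
    have e3 := congrArg (fun v : C => (v : GL ι F)) e1
    simp only [e2'] at e3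
    exact Subtype.ext (mul_left_cancel e3)
  have h5 := Nat.card_le_card_of_injective φ hφ
  rw [Nat.card_prod, Nat.card_eq_finsetCard] at h5
  have h6 : L.toFinset.card ≤ 6 := (List.toFinset_card_le L).trans (by simp [L])
  have h7 := X.order
  nlinarith

/-- An element mapping `R` into itself normalises it. -/
theorem mem_norm {g : GL ι F} (h : ∀ r ∈ R, g * r * g⁻¹ ∈ R) : g ∈ normalizer (R : Set (GL ι F)) := by
  haveI := X.fin
  rw [Subgroup.mem_normalizer_iff]
  refine fun r => ⟨h r, fun hr => ?_⟩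
  let f : R → R := fun s => ⟨g * s * g⁻¹, h s s.2⟩
  have hf : Function.Injective f := fun s t e => by
    have := congrArg (fun v : R => (v : GL ι F)) e
    simp only [f] at this
    exact Subtype.ext (mul_left_cancel (mul_right_cancel this))
  obtain ⟨s, hs⟩ := (Finite.injective_iff_surjective.1 hf) ⟨_, hr⟩
  have := congrArg (fun v : R => (v : GL ι F)) hs
  simp only [f] at this
  exact mul_left_cancel (mul_right_cancel this) ▸ s.2

end Sym

end CfsgLib.MaxSub.QuadTwo
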