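import Cfsg.Agent.Lib.MaxSub.Extra.Quad.Local
import Cfsg.Agent.Lib.PauliFour.Vectors
import Cfsg.Agent.Lib.PauliFour.Common

/-!
Block coordinates in dimension eight for a group `4 ∘ 2^(1+6)` containing the standard pair of anticommuting
involutions.
-/

set_option autoImplicit false
set_option linter.unusedSectionVars false
set_option linter.style.haveILetI false
set_option linter.unusedSimpArgs false
set_option maxHeartbeats 800000

namespace CfsgLib.MaxSub.QuadTwo.Blocks

open Matrix Subgroup CfsgLib.PauliFour CfsgLib.MaxSub.Extra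

variable {F : Type*} [Field F]

local notation "M4" => Matrix (Fin 4) (Fin 4) F
local notation "M8" => Matrix (Fin 8) (Fin 8) F
local notation "GL4" => GL (Fin 4) F
local notation "GL8" => GL (Fin 8) F

/-- The index split. -/
def e8 : Fin 8 ≃ Fin 4 ⊕ Fin 4 := (finSumFinEquiv (m := 4) (n := 4)).symm

/-- The matrix with four blocks. -/
def big (A B C D : M4) : M8 := (Matrix.fromBlocks A B C D).submatrix e8 e8

theorem big_mul (A B C D A' B' C' D' : M4) :
    big A B C D * big A' B' C' D' =
      big (A * A' + B * C') (A * B' + B * D') (C * A' + D * C') (C * B' + D * D') := by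
  rw [big, big, big, Matrix.submatrix_mul_equiv, Matrix.fromBlocks_multiply]

theorem big_add (A B C D A' B' C' D' : M4) :
    big A B C D + big A' B' C' D' = big (A + A') (B + B') (C + C') (D + D') := by
  rw [big, big, big, ← Matrix.fromBlocks_add]; rfl

theorem big_neg (A B C D : M4) : -big A B C D = big (-A) (-B) (-C) (-D) := by
  rw [big, big, ← Matrix.fromBlocks_neg]; rfl

theorem big_smul (c : F) (A B C D : M4) : c • big A B C D = big (c • A) (c • B) (c • C) (c • D) := by
  rw [big, big, ← Matrix.fromBlocks_smul]; rfl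

theorem big_one : big (1 : M4) 0 0 1 = 1 := by
  rw [big, Matrix.fromBlocks_one, Matrix.submatrix_one_equiv]

theorem big_inj {A B C D A' B' C' D' : M4} :
    big A B C D = big A' B' C' D' ↔ A = A' ∧ B = B' ∧ C = C' ∧ D = D' := by
  constructor
  · intro h
    refine Matrix.fromBlocks_inj.1 ?_
    ext i j
    have := congrFun (congrFun h (e8.symm i)) (e8.symm j)
    simpa [big] using this
  · rintro ⟨rfl, rfl, rfl, rfl⟩; rfl

theorem exists_big (M : M8) : ∃ A B C D, M = big A B C D :=
  ⟨_, _, _, _, by rw [big, Matrix.fromBlocks_toBlocks (M.submatrix e8.symm e8.symm)]; ext i j; simp⟩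

theorem big_det (A D : M4) : (big A 0 0 D).det = A.det * D.det := by
  rw [big, Matrix.det_submatrix_equiv_self, Matrix.det_fromBlocks_zero₁₂]

/-- The block diagonal embedding. -/
def emb : GL4 × GL4 →* GL8 where
  toFun p := ⟨big p.1.1 0 0 p.2.1, big (p.1⁻¹).1 0 0 (p.2⁻¹).1, by simp [big_mul, big_one], by simp [big_mul, big_one]⟩
  map_one' := Units.ext big_one
  map_mul' p q := Units.ext (by
    show big (p.1 * q.1).1 0 0 (p.2 * q.2).1 = big p.1.1 0 0 p.2.1 * big q.1.1 0 0 q.2.1
    simp [big_mul])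

theorem emb_val (a b : GL4) : (emb (a, b)).1 = big a.1 0 0 b.1 := rfl

theorem emb_mul (a b c d : GL4) : emb (a, b) * emb (c, d) = emb (a * c, b * d) := (map_mul emb (a, b) (c, d)).symm

theorem emb_inv (a b : GL4) : (emb (a, b))⁻¹ = emb (a⁻¹, b⁻¹) := (map_inv emb (a, b)).symm

theorem emb_inj {a b c d : GL4} : emb (a, b) = emb (c, d) ↔ a = c ∧ b = d := by
  constructor
  · intro h
    have := big_inj.1 (congrArg Units.val h)
    exact ⟨Units.ext this.1, Units.ext this.2.2.2⟩
  · rintro ⟨rfl, rfl⟩; rfl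

theorem emb_neg (a b : GL4) : emb (-a, -b) = -emb (a, b) := Units.ext (by simp [emb_val, big_neg])

theorem emb_one : emb (1, 1) = (1 : GL8) := map_one emb

theorem emb_sc (c : Fˣ) : emb (sc c, sc c) = (sc c : GL8) :=
  Units.ext (by rw [emb_val, coe_sc, coe_sc, ← big_one, big_smul, smul_zero])

/-- The standard first involution. -/
def Z0 : GL8 := emb ((1 : GL4), -1)

/-- The standard second involution. -/
def swp : GL8 :=
  ⟨big 0 1 1 0, big 0 1 1 0, by simp [big_mul, big_one], by simp [big_mul, big_one]⟩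

theorem swp_val : (swp : GL8).1 = big (0 : M4) 1 1 0 := rfl

theorem swp_sq : swp * swp = (1 : GL8) := Units.ext (by simp [swp_val, big_mul, big_one])

theorem Z0_val : (Z0 : GL8).1 = big (1 : M4) 0 0 (-1) := by simp [Z0, emb_val]

theorem Z0_sq : Z0 * Z0 = (1 : GL8) := by rw [Z0, emb_mul]; simp [emb_one]

theorem emb_comm_Z0 (a b : GL4) : emb (a, b) * Z0 = Z0 * emb (a, b) := by
  rw [Z0, emb_mul, emb_mul]; simp

theorem swp_emb (a b : GL4) : swp * emb (a, b) = emb (b, a) * swp :=
  Units.ext (by simp [swp_val, emb_val, big_mul])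

theorem swp_Z0 : Anti (swp : GL8) Z0 := Units.ext (by simp [swp_val, Z0_val, big_mul, big_neg])

theorem plus_Z0 : 1 + (Z0 : GL8).1 = big ((2 : F) • (1 : M4)) 0 0 0 := by
  rw [Z0_val, ← big_one, big_add]; simp [two_smul]

theorem minus_Z0 : 1 + ((-(Z0 : GL8) : GL8) : M8) = big (0 : M4) 0 0 ((2 : F) • 1) := by
  rw [Units.val_neg, Z0_val, big_neg, ← big_one, big_add]; simp [two_smul]

theorem comm_Z0 (h2 : (2 : F) ≠ 0) {g : GL8} (h : Commute g Z0) : ∃ a b, g = emb (a, b) := by
  have key : ∀ {k : GL8}, k * Z0 = Z0 * k → ∃ A D, k.1 = big A 0 0 D := fun {k} hk => by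
    obtain ⟨A, B, C, D, hM⟩ := exists_big k.1
    have e := congrArg Units.val hk
    simp only [Units.val_mul, Z0_val, hM, big_mul, big_inj, Matrix.mul_neg, Matrix.neg_mul, Matrix.mul_one,
      Matrix.one_mul, Matrix.mul_zero, Matrix.zero_mul, add_zero, zero_add, neg_zero] at e
    have hB : B = 0 := by
      refine (smul_eq_zero.1 (show (2 : F) • B = 0 from ?_)).resolve_left h2
      rw [two_smul]; nth_rw 2 [← e.2.1]; exact add_neg_cancel _
    have hC : C = 0 := by
      refine (smul_eq_zero.1 (show (2 : F) • C = 0 from ?_)).resolve_left h2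
      rw [two_smul]; nth_rw 2 [e.2.2.1]; exact add_neg_cancel _
    exact ⟨A, D, by rw [hM, hB, hC]⟩
  obtain ⟨A, D, h1⟩ := key h.eq
  obtain ⟨A', D', h1'⟩ := key h.inv_left.eq
  have e1 := g.mul_inv
  have e2 := g.inv_mul
  rw [h1, h1', big_mul, ← big_one, big_inj] at e1 e2
  simp only [Matrix.mul_zero, add_zero, zero_add] at e1 e2
  exact ⟨⟨A, A', e1.1, e2.1⟩, ⟨D, D', e1.2.2.2, e2.2.2.2⟩, Units.ext h1⟩

/-- The group contains the standard pair of involutions. -/
structure Std (R : Subgroup (GL (Fin 8) F)) (u : Fˣ) : Prop where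
  sym : Sym R u
  card : Nat.card R = 256
  hZ : Z0 ∈ R
  hs : swp ∈ R

/-- The group in one block. -/
def side (R : Subgroup (GL (Fin 8) F)) : Subgroup (GL (Fin 4) F) :=
  R.comap (emb.comp (MonoidHom.prod (MonoidHom.id _) (MonoidHom.id _)))

variable {R : Subgroup (GL (Fin 8) F)} {u : Fˣ}

theorem mem_side {e : GL4} : e ∈ side R ↔ emb (e, e) ∈ R := Iff.rfl

/-- An element multiplying every element of the two-group by a scalar acts as one of its elements. -/
theorem exists_rep {E : Subgroup (GL (Fin 4) F)} (h : PauliFour.Sys E) (hk : Nat.card (Subgroup.center E) = 4)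
    {i : Fˣ} (hi : (i : F) * i = -1) {x : GL4} (hx : ∀ a ∈ E, ∃ c : Fˣ, x * a * x⁻¹ = sc c * a) :
    ∃ d ∈ E, ∃ c : Fˣ, x = sc c * d := by
  classical
  haveI := h.nonempty
  haveI := h.fin
  have hi4 : i ^ 4 = 1 := Units.ext (by
    rw [Units.val_pow_eq_pow_val, Units.val_one]; linear_combination ((i : F) * i - 1) * hi)
  obtain ⟨f⟩ := h.exists_frame (Or.inl ⟨sc i, h.scalar_mem hk hi4, Units.ext (by
    rw [Units.val_mul, coe_sc, smul_mul_smul_comm, hi, one_mul, Units.val_neg, Units.val_one, neg_one_smul]),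
    fun g => sc_comm i g⟩)
  set d := rep f (nu f x)
  refine ⟨d, rep_mem f _, ?_⟩
  have hpm : ∀ g ∈ E, (g * g = 1 ∨ g * g = -1) → Commute x g ∨ x * g = -(g * x) := fun g hg hgg => by
    obtain ⟨c, hc⟩ := hx g hg
    have e : x * g = sc c * (g * x) := by rw [← mul_assoc, ← hc, inv_mul_cancel_right]
    have e2 : x * (g * g) = sc (c * c) * (g * g * x) := by
      rw [← mul_assoc, e, mul_assoc, mul_assoc g x g, e, ← mul_assoc g (sc c), ← sc_comm c g, mul_assoc (sc c) g,
        ← mul_assoc, ← map_mul, mul_assoc g g x]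
    have hcc : c * c = 1 := sc_injective (ι := Fin 4) (by
      rw [map_one]
      rcases hgg with h' | h' <;> rw [h'] at e2 <;>
        simpa using e2.symm)
    rcases mul_self_eq_one_iff.1 (congrArg Units.val hcc) with e' | e'
    · exact Or.inl (show x * g = g * x by rw [e, show c = 1 from Units.ext e', map_one, one_mul])
    · refine Or.inr (Units.ext ?_)
      rw [e, Units.val_mul, coe_sc, e', Units.val_neg, neg_one_smul, neg_one_mul]
  have hz : ∀ g ∈ E, (g * g = 1 ∨ g * g = -1) → bit d g = bit x g → Commute (d⁻¹ * x) g := fun g hg hgg hb => by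
    rcases hpm g hg hgg with e | e <;> rcases h.comm d (rep_mem f _) g hg with e' | e'
    · exact (show Commute d g from e').inv_left.mul_left e
    · rw [bit_one_of h e', bit_zero_iff.2 e.eq] at hb; exact absurd hb one_ne_zero
    · rw [bit_one_of h e, bit_zero_iff.2 e'] at hb; exact absurd hb zero_ne_one
    · show d⁻¹ * x * g = g * (d⁻¹ * x)
      have e3 : d⁻¹ * g = -(g * d⁻¹) := by
        calc d⁻¹ * g = d⁻¹ * (g * d) * d⁻¹ := by group
          _ = d⁻¹ * (-(d * g)) * d⁻¹ := by rw [e', neg_neg]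
          _ = -(g * d⁻¹) := by rw [mul_neg, inv_mul_cancel_left, neg_mul]
      rw [mul_assoc, e, mul_neg, ← mul_assoc, e3, neg_mul, neg_neg, mul_assoc]
  have hn := nu_rep f h (nu f x)
  have h0 := congrFun hn 0
  have h1 := congrFun hn 1
  have h2 := congrFun hn 2
  have h3 := congrFun hn 3
  simp only [nu, Matrix.cons_val_zero, Matrix.cons_val_one, Matrix.cons_val] at h0 h1 h2 h3
  have ka := hz f.a f.ha (Or.inl f.aa) h1
  have kb := hz f.b f.hb (Or.inl f.bb) h0
  have kc := hz f.c f.hc (Or.inr f.cc) h3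
  have kd := hz f.d f.hd (Or.inr f.dd) h2
  obtain ⟨c, hc⟩ := h.central (a := d⁻¹ * x) fun g hg => by
    obtain ⟨v, -, e⟩ := eq_rep f h hg
    rw [e]
    exact (((show Commute (d⁻¹ * x) (sc v) from (sc_comm v _).symm).mul_right
      ((((ka.pow_right _).mul_right (kb.pow_right _)).mul_right (kc.pow_right _)).mul_right (kd.pow_right _)))).eq
  exact ⟨c, by rw [sc_comm, ← hc, mul_inv_cancel_left]⟩

namespace Std

variable (S : Std R u)
include S

theorem two : (2 : F) ≠ 0 := S.sym.two

theorem ne_neg4 (a : GL4) : a ≠ -a := ne_neg_self S.two a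

theorem emb_neg_right {e : GL4} (he : e ∈ side R) : emb (e, -e) ∈ R := by
  have := mul_mem (mem_side.1 he) S.hZ
  rwa [Z0, emb_mul, mul_one, mul_neg_one] at this

theorem cent_cases {r : GL8} (hr : r ∈ R) (hrz : Commute r Z0) :
    ∃ e ∈ side R, r = emb (e, e) ∨ r = emb (e, -e) := by
  obtain ⟨a, b, rfl⟩ := comm_Z0 S.two hrz
  rcases S.sym.comm _ hr swp S.hs with e | e
  · have e' := e.eq
    rw [swp_emb, mul_left_inj, emb_inj] at e'
    obtain rfl := e'.1
    exact ⟨_, mem_side.2 hr, Or.inl rfl⟩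
  · unfold Anti at e
    rw [swp_emb, ← neg_mul, mul_left_inj, ← emb_neg, emb_inj] at e
    obtain rfl := e.2
    refine ⟨a, mem_side.2 ?_, Or.inr rfl⟩
    have := mul_mem hr S.hZ
    rwa [Z0, emb_mul, mul_one, neg_mul_neg, mul_one] at this

theorem anti_cases {r : GL8} (hr : r ∈ R) (hrz : Anti r Z0) :
    ∃ e ∈ side R, r = emb (e, e) * swp ∨ r = emb (e, -e) * swp := by
  obtain ⟨e, he, h⟩ := S.cent_cases (mul_mem hr S.hs) (hrz.symm.mul_anti swp_Z0.symm).symm
  refine ⟨e, he, ?_⟩
  have hr' : r = r * swp * swp := by rw [mul_assoc, swp_sq, mul_one]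
  rcases h with h | h
  · exact Or.inl (hr'.trans (by rw [h]))
  · exact Or.inr (hr'.trans (by rw [h]))

theorem induct {p : GL8 → Prop} (hdiag : ∀ e ∈ side R, p (emb (e, e))) (hz : p Z0) (hs : p swp)
    (hm : ∀ a b, p a → p b → p (a * b)) {r : GL8} (hr : r ∈ R) : p r := by
  have hneg : ∀ e ∈ side R, p (emb (e, -e)) := fun e he => by
    have := hm _ _ (hdiag e he) hz
    rwa [Z0, emb_mul, mul_one, mul_neg_one] at this
  rcases S.sym.comm r hr Z0 S.hZ with e | e
  · obtain ⟨a, ha, rfl | rfl⟩ := S.cent_cases hr e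
    exacts [hdiag a ha, hneg a ha]
  · obtain ⟨a, ha, rfl | rfl⟩ := S.anti_cases hr e
    exacts [hm _ _ (hdiag a ha) hs, hm _ _ (hneg a ha) hs]

theorem mem_norm {g : GL8} (hdiag : ∀ e ∈ side R, g * emb (e, e) * g⁻¹ ∈ R) (hz : g * Z0 * g⁻¹ ∈ R)
    (hs : g * swp * g⁻¹ ∈ R) : g ∈ normalizer (R : Set GL8) :=
  S.sym.mem_norm fun r hr => S.induct (p := fun r => g * r * g⁻¹ ∈ R) hdiag hz hs (fun a b ha hb => by
    show g * (a * b) * g⁻¹ ∈ R
    rw [show g * (a * b) * g⁻¹ = (g * a * g⁻¹) * (g * b * g⁻¹) by group]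
    exact mul_mem ha hb) hr

theorem side_unit : sc u ∈ side R := by rw [mem_side, emb_sc]; exact S.sym.unit

theorem side_neg : -1 ∈ side R := by
  rw [mem_side, emb_neg, emb_one]
  exact S.sym.neg

theorem side_comm {a b : GL4} (ha : a ∈ side R) (hb : b ∈ side R) : Commute a b ∨ Anti a b := by
  rcases S.sym.comm _ (mem_side.1 ha) _ (mem_side.1 hb) with e | e
  · have e' := e.eq
    rw [emb_mul, emb_mul, emb_inj] at e'; exact Or.inl e'.1
  · unfold Anti at e
    rw [emb_mul, emb_mul, ← emb_neg, emb_inj] at e; exact Or.inr e.1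

theorem side_sq {a : GL4} (ha : a ∈ side R) : PM (a * a) 1 := by
  rcases S.sym.sq _ (mem_side.1 ha) with e | e
  · rw [emb_mul, ← emb_one, emb_inj] at e; exact Or.inl e.1
  · rw [emb_mul, ← emb_one, ← emb_neg, emb_inj] at e; exact Or.inr e.1

theorem side_finite : Finite (side R) := by
  haveI := S.sym.fin
  exact Finite.of_injective (fun e : side R => (⟨emb (e.1, e.1), e.2⟩ : R))
    fun a b h => Subtype.ext (emb_inj.1 (congrArg Subtype.val h)).1

theorem side_card : Nat.card (side R) = 64 := by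
  classical
  haveI := S.side_finite
  let ψ : side R × Bool × Bool → R := fun x =>
    ⟨emb (x.1.1, x.1.1) * (if x.2.1 then Z0 else 1) * (if x.2.2 then swp else 1),
      mul_mem (mul_mem (mem_side.1 x.1.2) (by split_ifs <;> first | exact S.hZ | exact one_mem R))
        (by split_ifs <;> first | exact S.hs | exact one_mem R)⟩
  have neq : ∀ {u v : GL4}, u.1 = v.1 → u.1 = -v.1 → False := fun {u v} e e' =>
    S.ne_neg4 v (Units.ext (by rw [Units.val_neg]; exact e.symm.trans e'))
  have hbij : Function.Bijective ψ := by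
    constructor
    · intro x y h
      obtain ⟨a, i, j⟩ := x
      obtain ⟨b, i', j'⟩ := y
      have hv := congrArg (fun r : R => r.1.1) h
      cases i <;> cases i' <;> cases j <;> cases j' <;>
        simp only [ψ, Bool.false_eq_true, if_false, if_true, mul_one, Units.val_mul, emb_val, Z0_val, swp_val, big_mul,
          Matrix.mul_one, Matrix.mul_zero, Matrix.zero_mul, Matrix.mul_neg, add_zero, zero_add, neg_zero,
          big_inj] at hv
      all_goals first
        | exact Prod.ext (Subtype.ext (Units.ext hv.1)) rfl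
        | exact Prod.ext (Subtype.ext (Units.ext hv.2.1)) rfl
        | exact absurd hv.1 a.1.ne_zero
        | exact absurd hv.1.symm b.1.ne_zero
        | exact (neq hv.1 hv.2.2.2).elim
        | exact (neq hv.2.1 hv.2.2.1).elim
        | exact (neq hv.1.symm hv.2.2.2.symm).elim
        | exact (neq hv.2.1.symm hv.2.2.1.symm).elim
    · intro r
      rcases S.sym.comm r r.2 Z0 S.hZ with e | e
      · obtain ⟨a, ha, h | h⟩ := S.cent_cases r.2 e
        · exact ⟨(⟨a, ha⟩, false, false), Subtype.ext (by simp [ψ, h])⟩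
        · exact ⟨(⟨a, ha⟩, true, false), Subtype.ext (by simp [ψ, h, Z0, emb_mul])⟩
      · obtain ⟨a, ha, h | h⟩ := S.anti_cases r.2 e
        · exact ⟨(⟨a, ha⟩, false, true), Subtype.ext (by simp [ψ, h])⟩
        · exact ⟨(⟨a, ha⟩, true, true), Subtype.ext (by simp [ψ, h, Z0, emb_mul])⟩
  have := Nat.card_congr (Equiv.ofBijective ψ hbij)
  rw [S.card, Nat.card_prod, Nat.card_prod, show Nat.card Bool = 2 by simp] at this
  omega

theorem side_irr (M : M4) (hM : ∀ e ∈ side R, M * (e : M4) = (e : M4) * M) : ∃ c : F, M = c • 1 := by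
  obtain ⟨c, hc⟩ := S.sym.irr (big M 0 0 M) fun r hr =>
    S.induct (p := fun r => big M 0 0 M * r.1 = r.1 * big M 0 0 M)
      (fun e he => by simp [emb_val, big_mul, hM e he]) (by simp [Z0_val, big_mul]) (by simp [swp_val, big_mul])
      (fun a b ha hb => by
        show big M 0 0 M * (a * b).1 = (a * b).1 * big M 0 0 M
        rw [Units.val_mul, ← Matrix.mul_assoc, ha, Matrix.mul_assoc, hb, ← Matrix.mul_assoc]) hr
  refine ⟨c, ?_⟩
  rw [← big_one, big_smul, big_inj] at hc
  exact hc.1

theorem side_center : Nat.card (Subgroup.center (side R)) = 4 := by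
  classical
  haveI := S.side_finite
  have hu4 : u ^ 4 = 1 := Units.ext (by
    rw [Units.val_pow_eq_pow_val, Units.val_one]; linear_combination ((u : F) * u - 1) * S.sym.iu)
  let L : Fin 4 → Subgroup.center (side R) := fun k => ⟨⟨sc (u ^ (k : ℕ)), by
      rw [map_pow]; exact pow_mem S.side_unit _⟩,
    Subgroup.mem_center_iff.2 fun g => Subtype.ext (sc_comm _ _).symm⟩
  refine (Nat.card_congr (Equiv.ofBijective L ⟨fun a b e => ?_, fun z => ?_⟩).symm).trans (Nat.card_fin 4)
  · have e' : u ^ (a : ℕ) = u ^ (b : ℕ) :=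
      sc_injective (ι := Fin 4) (congrArg (fun w : Subgroup.center (side R) => w.1.1) e)
    have hne1 : (-1 : F) ≠ 1 := fun h => S.two (by linear_combination -h)
    have ho : orderOf u = 4 := by
      rw [show 4 = 2 ^ (1 + 1) by norm_num]
      haveI : Fact (Nat.Prime 2) := ⟨Nat.prime_two⟩
      refine orderOf_eq_prime_pow (fun h => hne1 ?_) hu4
      rw [← S.sym.iu, ← pow_two, ← Units.val_pow_eq_pow_val, ← pow_one 2, h, Units.val_one]
    exact Fin.ext (pow_injOn_Iio_orderOf (by rw [Set.mem_Iio, ho]; exact a.2) (by rw [Set.mem_Iio, ho]; exact b.2) e')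
  · obtain ⟨c, hc⟩ := S.side_irr z.1.1.1 fun e he => (congrArg (fun w : side R => w.1.1)
      (Subgroup.mem_center_iff.1 z.2 ⟨e, he⟩)).symm
    obtain ⟨v, -, hv⟩ := eq_sc_of_coe hc
    have hu0 : (u : F) * u = -1 := S.sym.iu
    have hvv : (v : F) * v = 1 ∨ (v : F) * v = -1 := by
      rcases S.side_sq z.1.2 with e | e <;> rw [hv, ← map_mul] at e
      · left; simpa using congrArg Units.val (sc_injective (ι := Fin 4) (e.trans (map_one sc).symm))
      · right
        rw [← map_one (sc (F := F) (ι := Fin 4)), ← sc_neg] at e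
        simpa using congrArg Units.val (sc_injective (ι := Fin 4) e)
    obtain ⟨k, hk⟩ : ∃ k : Fin 4, v = u ^ (k : ℕ) := by
      rcases hvv with e | e
      · rcases mul_self_eq_one_iff.1 e with e | e
        · exact ⟨0, Units.ext (by simpa using e)⟩
        · exact ⟨2, Units.ext (by rw [Units.val_pow_eq_pow_val]; show (v : F) = (u : F) ^ 2; rw [pow_two, hu0, e])⟩
      · rw [← hu0] at e
        rcases mul_self_eq_mul_self_iff.1 e with e | e
        · exact ⟨1, Units.ext (by simpa using e)⟩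
        · exact ⟨3, Units.ext (by
            rw [Units.val_pow_eq_pow_val]; show (v : F) = (u : F) ^ 3
            linear_combination e - (u : F) * hu0)⟩
    exact ⟨k, Subtype.ext (Subtype.ext (show sc (u ^ (k : ℕ)) = z.1.1 by rw [hv, hk]))⟩

theorem sys : PauliFour.Sys (side R) := by
  refine ⟨S.two, by simp, S.side_irr, S.side_finite, by rw [S.side_card, S.side_center],
    fun a ha b hb => (S.side_comm ha hb).imp (fun e => e.eq) fun e => e, fun a ha b hb => ?_, fun a ha => ?_, S.side_neg⟩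
  · rcases S.side_sq ha with e | e <;> rw [e] <;> simp
  · rw [pow_succ, pow_succ, pow_succ, pow_one, mul_assoc (a * a)]
    rcases S.side_sq ha with e | e <;> rw [e] <;> simp

theorem diag_norm {s : GL4} (hs : s ∈ normalizer (side R : Set GL4)) :
    emb (s, s) ∈ normalizer (R : Set GL8) := by
  refine S.mem_norm (fun e he => ?_) ?_ ?_
  · rw [emb_mul, emb_inv, emb_mul]
    exact mem_side.1 ((Subgroup.mem_normalizer_iff.1 hs e).1 he)
  · rw [emb_comm_Z0, mul_inv_cancel_right]; exact S.hZ
  · rw [← swp_emb, mul_inv_cancel_right]; exact S.hs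

/-- The elements trivial on one eigenspace. -/
theorem root {e : GL4} (he : e ∈ side R) : emb (e, 1) ∈ normalizer (R : Set GL8) := by
  refine S.mem_norm (fun a ha => ?_) ?_ ?_
  · rw [emb_mul, emb_inv, emb_mul]
    rcases S.side_comm he ha with h | h
    · rw [h.eq]; simpa using mem_side.1 ha
    · rw [show e * a = -(a * e) from h, neg_mul, mul_inv_cancel_right, inv_one, one_mul, mul_one, ← neg_neg (emb (-a, a)),
        ← emb_neg, neg_neg, ← neg_one_mul]
      exact mul_mem S.sym.neg (S.emb_neg_right ha)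
  · rw [emb_comm_Z0, mul_inv_cancel_right]; exact S.hZ
  · rw [mul_assoc, emb_inv, swp_emb, ← mul_assoc, emb_mul, inv_one, mul_one, one_mul]
    refine mul_mem ?_ S.hs
    rcases S.side_sq he with h | h
    · rw [show e⁻¹ = e from inv_eq_of_mul_eq_one_right h]; exact mem_side.1 he
    · rw [show e⁻¹ = -e from inv_eq_of_mul_eq_one_right (by rw [mul_neg, h, neg_neg])]
      exact S.emb_neg_right he

theorem side_norm {a b : GL4} (h : emb (a, b) ∈ normalizer (R : Set GL8)) :
    a ∈ normalizer (side R : Set GL4) := by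
  haveI := S.side_finite
  have hm : ∀ e ∈ side R, a * e * a⁻¹ ∈ side R := fun e he => by
    have hm : emb (a * e * a⁻¹, b * e * b⁻¹) ∈ R := by
      have := (Subgroup.mem_normalizer_iff.1 h _).1 (mem_side.1 he)
      rwa [emb_mul, emb_inv, emb_mul] at this
    obtain ⟨d, hd, h' | h'⟩ := S.cent_cases hm (emb_comm_Z0 _ _) <;>
    · rw [(emb_inj.1 h').1]; exact hd
  rw [Subgroup.mem_normalizer_iff]
  refine fun r => ⟨hm r, fun hr => ?_⟩
  let f : side R → side R := fun s => ⟨a * s * a⁻¹, hm s s.2⟩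
  have hf : Function.Injective f := fun s t e =>
    Subtype.ext (mul_left_cancel (mul_right_cancel (congrArg (fun v : side R => (v : GL4)) e)))
  obtain ⟨s, hs⟩ := Finite.injective_iff_surjective.1 hf ⟨_, hr⟩
  exact mul_left_cancel (mul_right_cancel (congrArg (fun v : side R => (v : GL4)) hs)) ▸ s.2

theorem iq_Z0 : IQ R (Z0 : GL8) := ⟨S.hZ, Z0_sq, S.sym.not_scal_of_anti swp_Z0⟩

theorem tau_Z0 : (tau u (Z0 : GL8)) = emb (1, sc u) := Units.ext (by
  rw [S.sym.tau_coe Z0_sq, tauM, Z0_val, ← big_one, big_smul, big_smul, big_add, emb_val, coe_sc, Units.val_one, big_inj]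
  have h2 := S.two
  refine ⟨?_, by simp, by simp, ?_⟩
  · rw [← add_smul, show (1 + (u : F)) / 2 + (1 - (u : F)) / 2 = 1 by field_simp; ring, one_smul]
  · rw [smul_neg, ← sub_eq_add_neg, ← sub_smul, show (1 + (u : F)) / 2 - (1 - (u : F)) / 2 = u by field_simp; ring])

/-- The square root of an involution of one block, acting on both. -/
theorem tau_diag {e : GL4} (he : e ∈ side R) (hee : e * e = 1) :
    ∃ t, tau u (emb (e, e)) = emb (t, t) := by
  have hi : emb (e, e) * emb (e, e) = 1 := by rw [emb_mul, hee, emb_one]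
  obtain ⟨a, b, hab⟩ := comm_Z0 S.two (g := tau u (emb (e, e)))
    (S.sym.tau_commute hi (emb_comm_Z0 e e).symm).symm
  refine ⟨a, ?_⟩
  have hc : Commute swp (tau u (emb (e, e))) := S.sym.tau_commute hi (swp_emb e e)
  have hc' := hc.eq
  rw [hab, swp_emb, mul_left_inj, emb_inj] at hc'
  rw [hab, hc'.1]

theorem side_scale {e : GL4} (he : e ∈ side R) (hn : ∀ c : Fˣ, e ≠ sc c) :
    ∃ c : Fˣ, sc c ∈ side R ∧ sc c * e * (sc c * e) = 1 := by
  rcases S.side_sq he with h | h
  · exact ⟨1, by rw [map_one]; exact one_mem _, by rw [map_one, one_mul]; exact h⟩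
  · refine ⟨u, S.side_unit, ?_⟩
    rw [mul_assoc, ← mul_assoc e (sc u) e, ← (sc_comm u e), mul_assoc (sc u) e e, ← mul_assoc, h, ← map_mul]
    refine Units.ext ?_
    rw [Units.val_mul, coe_sc, Units.val_mul, S.sym.iu, Units.val_neg, Units.val_one, neg_one_smul, neg_mul_neg, one_mul]

theorem side_anti {e : GL4} (he : e ∈ side R) (hn : ∀ c : Fˣ, e ≠ sc c) : ∃ r ∈ side R, Anti r e := by
  by_contra! hh
  obtain ⟨c, hc⟩ := S.sys.central (a := e) fun b hb => ((S.side_comm hb he).resolve_right (hh b hb)).eq.symm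
  exact hn c hc

/-- An element conjugating a test group `A` into the normaliser of one block normalises that block. -/
theorem side_conj {A : Subgroup GL4} {x : GL4} (hsA : side R ≤ A)
    (hA : ∀ n ∈ A, x⁻¹ * n * x ∈ normalizer (side R : Set GL4) ∧ x * n * x⁻¹ ∈ normalizer (side R : Set GL4))
    (htt : ∀ z r t t' : GL4, z ∈ side R → r ∈ side R → z * z = 1 → r * r = 1 → Anti r z →
      tau u (emb (z, z)) = emb (t, t) → tau u (emb (r, r)) = emb (t', t') → t * t' ∈ A) :
    x ∈ normalizer (side R : Set GL4) := by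
  classical
  haveI := S.side_finite
  set R' : Subgroup GL4 := (side R).map (MulAut.conj x).toMonoidHom with hR'
  have memR' : ∀ {y}, y ∈ R' ↔ x⁻¹ * y * x ∈ side R := fun {y} => by
    rw [hR', Subgroup.mem_map_equiv, MulAut.conj_symm_apply]
  have hscR' : ∀ {c : Fˣ}, sc c ∈ side R → sc c ∈ R' := fun {c} hc => memR'.2 (by
    rwa [← sc_comm c x⁻¹, mul_assoc, inv_mul_cancel, mul_one])
  have hAR' : ∀ n ∈ A, ∀ y ∈ R', n * y * n⁻¹ ∈ R' := fun n hn y hy => memR'.2 (by
    have := (Subgroup.mem_normalizer_iff.1 (hA n hn).1 _).1 (memR'.1 hy)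
    convert this using 1
    group)
  have hR'N : ∀ y ∈ R', y ∈ normalizer (side R : Set GL4) := fun y hy => by
    have := (hA _ (hsA (memR'.1 hy))).2
    rwa [show x * (x⁻¹ * y * x) * x⁻¹ = y by group] at this
  -- a common non-scalar element
  obtain ⟨z, hz, hz', hzz, hzn⟩ : ∃ z, z ∈ side R ∧ z ∈ R' ∧ z * z = 1 ∧ ∀ c : Fˣ, z ≠ sc c := by
    suffices ∃ z, z ∈ side R ∧ z ∈ R' ∧ ∀ c : Fˣ, z ≠ sc c by
      obtain ⟨z, hz, hz', hn⟩ := this
      obtain ⟨c, hc, e⟩ := S.side_scale hz hn
      exact ⟨sc c * z, mul_mem hc hz, mul_mem (hscR' hc) hz', e, fun d e' => hn (c⁻¹ * d) (by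
        rw [map_mul, ← e', map_inv, inv_mul_cancel_left])⟩
    by_contra! hno
    obtain ⟨e, he, he'⟩ : ∃ e ∈ side R, ∀ c : Fˣ, e ≠ sc c := by
      by_contra! hall
      have hle : side R ≤ Subgroup.map (sc (F := F) (ι := Fin 4)) ⊤ := fun e he => by
        obtain ⟨c, rfl⟩ := hall e he; exact ⟨c, trivial, rfl⟩
      have : ∀ a b : side R, a * b = b * a := fun a b => by
        obtain ⟨c, -, hc⟩ := hle a.2
        exact Subtype.ext (by rw [Subgroup.coe_mul, Subgroup.coe_mul, ← hc, sc_comm])
      have htop : Subgroup.center (side R) = ⊤ := eq_top_iff.2 fun a _ => Subgroup.mem_center_iff.2 fun b => this b a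
      have h4 := S.side_center
      rw [htop, Subgroup.card_top, S.side_card] at h4
      omega
    set f := x * e * x⁻¹ with hf
    have hfR' : f ∈ R' := memR'.2 (by rwa [show x⁻¹ * f * x = e by rw [hf]; group])
    have hsgn : ∀ a ∈ side R, ∃ c : Fˣ, f * a * f⁻¹ * a⁻¹ = sc c := fun a ha => hno _
      (mul_mem ((Subgroup.mem_normalizer_iff.1 (hR'N f hfR') a).1 ha) (inv_mem ha))
      (by
        rw [show f * a * f⁻¹ * a⁻¹ = f * (a * f⁻¹ * a⁻¹) by group]
        exact mul_mem hfR' (hAR' a (hsA ha) _ (inv_mem hfR')))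
    -- `f` acts as an element of the block
    obtain ⟨d, hd, c, hc⟩ := exists_rep (x := f) S.sys S.side_center S.sym.iu fun a ha => by
      obtain ⟨c, hc⟩ := hsgn a ha
      refine ⟨c, ?_⟩
      rw [← hc]; group
    have hdn : ∀ c' : Fˣ, d ≠ sc c' := fun c' e' => he' (c * c') (by
      have : x * e * x⁻¹ = sc (c * c') := by rw [map_mul, ← e', ← hc]
      rw [show e = x⁻¹ * (x * e * x⁻¹) * x by group, this, ← sc_comm (c * c') x⁻¹, mul_assoc, inv_mul_cancel, mul_one])
    have hc4 : sc c ∈ side R := by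
      have hf2 : PM (f * f) 1 := by
        rcases S.side_sq he with h | h
        · left; rw [hf, show x * e * x⁻¹ * (x * e * x⁻¹) = x * (e * e) * x⁻¹ by group, h]; simp
        · right; rw [hf, show x * e * x⁻¹ * (x * e * x⁻¹) = x * (e * e) * x⁻¹ by group, h]; simp
      have hff : f * f = sc (c * c) * (d * d) := by
        rw [hc, map_mul, mul_assoc, ← mul_assoc d (sc c) d, ← sc_comm c d, mul_assoc (sc c) d d, ← mul_assoc]
      have hcc : PM (sc (c * c) : GL4) 1 := by
        rcases hf2 with h | h <;> rcases S.side_sq hd with h' | h' <;> rw [h, h'] at hff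
        · left; simpa using hff.symm
        · right; rw [mul_neg, mul_one] at hff; exact (neg_eq_iff_eq_neg.1 hff.symm)
        · right; rw [mul_one] at hff; exact hff.symm
        · left; rw [mul_neg, mul_one, neg_inj] at hff; exact hff.symm
      have hc4 : c ^ 4 = 1 := by
        refine sc_injective (ι := Fin 4) ?_
        rw [map_one, show c ^ 4 = c * c * (c * c) by rw [pow_succ, pow_succ, pow_succ, pow_one, mul_assoc], map_mul]
        rcases hcc with h | h <;> rw [h] <;> simp
      exact S.sys.scalar_mem S.side_center hc4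
    obtain ⟨c', hc'⟩ := hno d hd (by
      have : d = (sc c)⁻¹ * f := by rw [hc, inv_mul_cancel_left]
      rw [this]; exact mul_mem (inv_mem (hscR' hc4)) hfR')
    exact hdn c' hc'
  -- the elements anticommuting with it
  have hanti : ∀ r ∈ side R, Anti r z → r ∈ R' := by
    suffices key : ∀ r ∈ side R, r * r = 1 → Anti r z → r ∈ R' by
      intro r hr hra
      obtain ⟨c, hc, e⟩ := S.side_scale hr fun c h => S.ne_neg4 (z * sc c) (by
        have h' : r * z = -(z * r) := hra
        rwa [h, sc_comm] at h')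
      have := mul_mem (inv_mem (hscR' hc)) (key _ (mul_mem hc hr) e ((hra.symm.sc_mul c).symm))
      rwa [inv_mul_cancel_left] at this
    intro r hr hrr hra
    obtain ⟨t, ht⟩ := S.tau_diag hz hzz
    obtain ⟨t', ht'⟩ := S.tau_diag hr hrr
    have hn := hAR' _ (htt z r t t' hz hr hzz hrr hra ht ht') z hz'
    have h8 : Anti (emb (r, r)) (emb (z, z)) := by
      show emb (r, r) * emb (z, z) = -(emb (z, z) * emb (r, r))
      rw [emb_mul, emb_mul, ← emb_neg, show r * z = -(z * r) from hra]
    have hz8 : emb (z, z) * emb (z, z) = 1 := by rw [emb_mul, hzz, emb_one]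
    have hr8 : emb (r, r) * emb (r, r) = 1 := by rw [emb_mul, hrr, emb_one]
    have e1 := S.sym.tau_anti hr8 h8.symm
    have e2 : emb (t * t' * z * (t * t')⁻¹, t * t' * z * (t * t')⁻¹) =
        tau u (emb (z, z)) * (tau u (emb (r, r)) * emb (z, z) * (tau u (emb (r, r)))⁻¹) * (tau u (emb (z, z)))⁻¹ := by
      rw [ht, ht']
      simp only [emb_mul, emb_inv]
      rw [emb_inj]
      constructor <;> group
    rw [e1, ← mul_assoc (tau u (emb (z, z))), ← (commute_sc (-u) (tau u (emb (z, z)))).eq, mul_assoc (sc (-u)),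
      mul_assoc (sc (-u)), show tau u (emb (z, z)) * (emb (r, r) * emb (z, z)) * (tau u (emb (z, z)))⁻¹ =
        (tau u (emb (z, z)) * emb (r, r) * (tau u (emb (z, z)))⁻¹) * emb (z, z) by
        rw [show tau u (emb (z, z)) * (emb (r, r) * emb (z, z)) * (tau u (emb (z, z)))⁻¹ =
          tau u (emb (z, z)) * emb (r, r) * (tau u (emb (z, z)))⁻¹ *
            (tau u (emb (z, z)) * emb (z, z) * (tau u (emb (z, z)))⁻¹) by group,
          ← (S.sym.tau_commute hz8 (Commute.refl _)).eq, mul_inv_cancel_right],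
      S.sym.tau_anti hz8 h8, ← emb_sc, emb_mul, emb_mul, emb_mul, emb_mul, emb_inj] at e2
    rw [e2.1] at hn
    have hu : (sc (-u) : GL4) * sc (-u) = -1 := Units.ext (by simp [smul_smul, S.sym.iu])
    have e3 : sc (-u) * (sc (-u) * (z * r) * z) = r := by
      rw [mul_assoc (sc (-u)) (z * r) z, ← mul_assoc, hu, mul_assoc z r z, show r * z = -(z * r) from hra, mul_neg,
        ← mul_assoc, hzz, one_mul, neg_mul_neg, one_mul]
    rwa [e3] at hn
  -- everything
  obtain ⟨r, hr, hra⟩ := S.side_anti hz hzn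
  have hle : side R ≤ R' := fun e he => by
    rcases S.side_comm he hz with h | h
    · have h1 : Anti (e * r) z := by
        show e * r * z = -(z * (e * r))
        rw [mul_assoc, show r * z = -(z * r) from hra, mul_neg, ← mul_assoc, h.eq, mul_assoc]
      exact (Subgroup.mul_mem_cancel_right _ (hanti r hr hra)).1 (hanti _ (mul_mem he hr) h1)
    · exact hanti e he h
  haveI : Finite R' := Finite.of_surjective (fun e : side R => (⟨x * e * x⁻¹, ⟨e.1, e.2, rfl⟩⟩ : R'))
    fun ⟨_, e, he, rfl⟩ => ⟨⟨e, he⟩, rfl⟩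
  have heq : side R = R' := Subgroup.eq_of_le_of_card_ge hle
    (le_of_eq (Nat.card_congr ((side R).equivMapOfInjective _ (MulAut.conj x).injective).toEquiv).symm)
  rw [Subgroup.mem_normalizer_iff]
  exact fun e => ⟨fun he => heq.ge (memR'.2 (by rwa [show x⁻¹ * (x * e * x⁻¹) * x = e by group])),
    fun he => by simpa [mul_assoc] using memR'.1 (heq.le he)⟩

end Std

end CfsgLib.MaxSub.QuadTwo.Blocks
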