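import Cfsg.Agent.Lib.MaxSub.Extra.Quad.SLBlocks

/-!
An overgroup containing both block special linear groups and the square root of the exchange is everything.
-/

set_option autoImplicit false

namespace CfsgLib.MaxSub.QuadTwo

open Matrix Subgroup CfsgLib.PauliFour CfsgLib.MaxSub.Extra Cfsg.Geo

variable {F : Type*} [Field F]

theorem emb_tr_left {i j : Fin 4} (h : i ≠ j) (a : F) :
    emb (tr h a, 1) = tr (Sum.inl_injective.ne h : (Sum.inl i : Fin 4 ⊕ Fin 4) ≠ Sum.inl j) a := by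
  refine Units.ext (Matrix.ext fun k l => ?_)
  rw [coe_emb, coe_tr]
  rcases k with k | k <;> rcases l with l | l <;> simp [Matrix.single_apply, Matrix.one_apply]

theorem emb_tr_right {i j : Fin 4} (h : i ≠ j) (a : F) :
    emb (1, tr h a) = tr (Sum.inr_injective.ne h : (Sum.inr i : Fin 4 ⊕ Fin 4) ≠ Sum.inr j) a := by
  refine Units.ext (Matrix.ext fun k l => ?_)
  rw [coe_emb, coe_tr]
  rcases k with k | k <;> rcases l with l | l <;> simp [Matrix.single_apply, Matrix.one_apply]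

theorem Wb_tr (i j : Fin 4) (a : F) :
    Wb * tr (Sum.inl_ne_inr : (Sum.inl i : Fin 4 ⊕ Fin 4) ≠ Sum.inr j) a * Wb =
      tr (Sum.inr_ne_inl : (Sum.inr i : Fin 4 ⊕ Fin 4) ≠ Sum.inl j) a := by
  refine Units.ext ?_
  have e : (Wb : GL (Fin 4 ⊕ Fin 4) F).1 * Wb.1 = 1 := congrArg Units.val Wb_sq
  rw [Units.val_mul, Units.val_mul, coe_tr, coe_tr, mul_add, add_mul, mul_one, e]
  congr 1
  refine Matrix.ext fun k l => ?_
  rcases k with k | k <;> rcases l with l | l <;>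
    simp [Wb, Matrix.mul_apply, Fintype.sum_sum_type, Matrix.single_apply, Matrix.one_apply, ite_and] <;>
    split_ifs <;> simp_all

theorem sl_le_of_cross {H : Subgroup (GL (Fin 4 ⊕ Fin 4) F)}
    (hl : ∀ (i j : Fin 4) (h : i ≠ j) (a : F), emb (tr h a, 1) ∈ H)
    (hr : ∀ (i j : Fin 4) (h : i ≠ j) (a : F), emb (1, tr h a) ∈ H) (hW : Wb ∈ H) {c : F} (hc : c ≠ 0)
    (hcr : tr (Sum.inl_ne_inr : (Sum.inl 2 : Fin 4 ⊕ Fin 4) ≠ Sum.inr 1) c ∈ H) :
    specialLinear (Fin 4 ⊕ Fin 4) F ≤ H := by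
  have h21 : ∀ i : Fin 4, i ≠ 2 → ∀ a : F,
      tr (Sum.inl_ne_inr : (Sum.inl i : Fin 4 ⊕ Fin 4) ≠ Sum.inr 1) a ∈ H := fun i hi a => by
    have := tr_mem _ _ (Sum.inl_ne_inr : (Sum.inl i : Fin 4 ⊕ Fin 4) ≠ Sum.inr 1)
      (emb_tr_left hi (a / c) ▸ hl i 2 hi (a / c)) hcr
    rwa [div_mul_cancel₀ _ hc] at this
  have hi1 : ∀ i : Fin 4, ∀ a : F, tr (Sum.inl_ne_inr : (Sum.inl i : Fin 4 ⊕ Fin 4) ≠ Sum.inr 1) a ∈ H :=
    fun i a => by
    by_cases hi : i = 2
    · subst hi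
      have := tr_mem _ _ (Sum.inl_ne_inr : (Sum.inl 2 : Fin 4 ⊕ Fin 4) ≠ Sum.inr 1)
        (emb_tr_left (by decide : (2 : Fin 4) ≠ 0) a ▸ hl 2 0 (by decide) a) (h21 0 (by decide) 1)
      rwa [mul_one] at this
    · exact h21 i hi a
  have hij : ∀ i j : Fin 4, ∀ a : F, tr (Sum.inl_ne_inr : (Sum.inl i : Fin 4 ⊕ Fin 4) ≠ Sum.inr j) a ∈ H :=
    fun i j a => by
    by_cases hj : j = 1
    · subst hj; exact hi1 i a
    · have := tr_mem _ _ (Sum.inl_ne_inr : (Sum.inl i : Fin 4 ⊕ Fin 4) ≠ Sum.inr j)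
        (hi1 i a) (emb_tr_right (Ne.symm hj) (1 : F) ▸ hr 1 j (Ne.symm hj) 1)
      rwa [mul_one] at this
  haveI : Nontrivial (Fin 4 ⊕ Fin 4) := ⟨⟨Sum.inl 0, Sum.inr 0, Sum.inl_ne_inr⟩⟩
  refine sl_le_of_tr fun k l hkl a => ?_
  rcases k with k | k <;> rcases l with l | l
  · exact emb_tr_left (fun e => hkl (congrArg Sum.inl e)) a ▸ hl k l _ a
  · exact hij k l a
  · exact Wb_tr k l a ▸ mul_mem (mul_mem hW (hij k l a)) hW
  · exact emb_tr_right (fun e => hkl (congrArg Sum.inr e)) a ▸ hr k l _ a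

/-- The blocks and the square root of the exchange generate a cross root element. -/
theorem cross_mem {H : Subgroup (GL (Fin 4 ⊕ Fin 4) F)} {u : Fˣ} (h2 : (2 : F) ≠ 0) (hu : (u : F) * u = -1)
    (hl : ∀ (i j : Fin 4) (h : i ≠ j) (a : F), emb (tr h a, 1) ∈ H)
    {τ : GL (Fin 4 ⊕ Fin 4) F} (hτ : τ ∈ H) (eτ : (τ : Matrix (Fin 4 ⊕ Fin 4) (Fin 4 ⊕ Fin 4) F) = tauM u Wb) :
    tr (Sum.inl_ne_inr : (Sum.inl 2 : Fin 4 ⊕ Fin 4) ≠ Sum.inr 1) ((u : F) / 2) ∈ H := by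
  set X : Matrix (Fin 4) (Fin 4) F := single 0 1 1 with hX
  set E : Matrix (Fin 4) (Fin 4) F := single 2 1 1 with hE
  set P : Matrix (Fin 4) (Fin 4) F := single 2 0 1 with hP
  let x := emb (tr (by decide : (0 : Fin 4) ≠ 1) (1 : F), (1 : GL (Fin 4) F))
  let d := emb (tr (by decide : (2 : Fin 4) ≠ 0) (1 : F), (1 : GL (Fin 4) F))
  let e := emb (tr (by decide : (2 : Fin 4) ≠ 1) (-(1 / 2) : F), (1 : GL (Fin 4) F))
  have hx : x ∈ H := hl _ _ _ _
  have hd : d ∈ H := hl _ _ _ _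
  have he : e ∈ H := hl _ _ _ _
  set y := τ * x * τ⁻¹ with hy
  have hyH : y ∈ H := mul_mem (mul_mem hτ hx) (inv_mem hτ)
  -- the matrix of `y`
  have ey : (y : Matrix (Fin 4 ⊕ Fin 4) (Fin 4 ⊕ Fin 4) F) =
      fromBlocks (1 + (1 / 2 : F) • X) (((u : F) / 2) • X) ((-(u : F) / 2) • X) (1 + (1 / 2 : F) • X) := by
    have key : fromBlocks (1 + (1 / 2 : F) • X) (((u : F) / 2) • X) ((-(u : F) / 2) • X) (1 + (1 / 2 : F) • X) *
        (τ : Matrix (Fin 4 ⊕ Fin 4) (Fin 4 ⊕ Fin 4) F) = (τ : Matrix (Fin 4 ⊕ Fin 4) (Fin 4 ⊕ Fin 4) F) * x.1 := by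
      have h4 : (2 : F) * 2 ≠ 0 := mul_ne_zero h2 h2
      simp only [eτ, tauM, x, coe_emb, coe_tr, Units.val_one, Wb, ← fromBlocks_one, fromBlocks_smul,
        fromBlocks_add, fromBlocks_multiply, fromBlocks_inj, smul_zero, add_zero, zero_add, ← hX]
      refine ⟨?_, ?_, ?_, ?_⟩ <;>
        simp only [add_mul, mul_add, smul_mul_assoc, mul_smul_comm, mul_one, one_mul, smul_smul, mul_zero, zero_mul,
          smul_zero, add_zero, zero_add] <;>
        match_scalars <;> field_simp <;>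
        first | ring1 | linear_combination (1 : F) * hu | linear_combination (-1 : F) * hu |
          linear_combination (2 : F) * hu | linear_combination (-2 : F) * hu
    rw [hy, Units.val_mul, Units.val_mul, ← key, mul_assoc, ← Units.val_mul, mul_inv_cancel, Units.val_one, mul_one]
  have fin : e * d * y = tr (Sum.inl_ne_inr : (Sum.inl 2 : Fin 4 ⊕ Fin 4) ≠ Sum.inr 1) ((u : F) / 2) * y * d := by
    refine Units.ext ?_
    have etr : ((tr (Sum.inl_ne_inr : (Sum.inl 2 : Fin 4 ⊕ Fin 4) ≠ Sum.inr 1) ((u : F) / 2) :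
        GL (Fin 4 ⊕ Fin 4) F) : Matrix (Fin 4 ⊕ Fin 4) (Fin 4 ⊕ Fin 4) F) =
        fromBlocks 1 (((u : F) / 2) • E) 0 1 := by
      refine Matrix.ext fun k l => ?_
      rw [coe_tr]
      rcases k with k | k <;> rcases l with l | l <;> simp [hE, Matrix.single_apply, Matrix.one_apply]
    have e1 : single (2 : Fin 4) (1 : Fin 4) (-(1 / 2) : F) = (-(1 / 2) : F) • E := by
      rw [hE, Matrix.smul_single, smul_eq_mul, mul_one]
    have p1 : P * X = E := by rw [hP, hX, hE, single_mul_single_same, one_mul]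
    have p2 : X * P = 0 := by rw [hP, hX]; exact single_mul_single_of_ne _ _ _ _ (by decide) _
    have p3 : E * X = 0 := by rw [hE, hX]; exact single_mul_single_of_ne _ _ _ _ (by decide) _
    have p4 : E * P = 0 := by rw [hE, hP]; exact single_mul_single_of_ne _ _ _ _ (by decide) _
    have p5 : E * E = 0 := by rw [hE]; exact single_mul_single_of_ne _ _ _ _ (by decide) _
    have p6 : X * X = 0 := by rw [hX]; exact single_mul_single_of_ne _ _ _ _ (by decide) _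
    simp only [Units.val_mul, ey, etr, e, d, coe_emb, coe_tr, Units.val_one, e1, ← hP, fromBlocks_multiply,
      fromBlocks_inj]
    refine ⟨?_, ?_, ?_, ?_⟩ <;>
      simp only [add_mul, mul_add, smul_mul_assoc, mul_smul_comm, mul_one, one_mul, smul_smul, mul_zero, zero_mul,
        smul_zero, add_zero, zero_add, p1, p2, p3, p4, p5, p6] <;>
      match_scalars <;> field_simp <;>
      first | ring1 | linear_combination (1 : F) * hu | linear_combination (-1 : F) * hu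
  have : tr (Sum.inl_ne_inr : (Sum.inl 2 : Fin 4 ⊕ Fin 4) ≠ Sum.inr 1) ((u : F) / 2) = e * d * y * (y * d)⁻¹ := by
    rw [fin]; group
  rw [this]
  exact mul_mem (mul_mem (mul_mem he hd) hyH) (inv_mem (mul_mem hyH hd))

end CfsgLib.MaxSub.QuadTwo
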