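import Cfsg.Agent.Lib.MaxSub.Extra.Quad.Basic

/-!
An overgroup whose involution centralisers act on each eigenspace through `R` normalises `R` on those centralisers,
and fusion of non-central involutions of `R` stays in the normaliser.
-/

set_option autoImplicit false

namespace CfsgLib.MaxSub.QuadTwo

open Matrix Subgroup CfsgLib.PauliFour CfsgLib.MaxSub.Extra

variable {F : Type*} [Field F] {ι : Type} [Fintype ι] [DecidableEq ι]

/-- The matrix `(1 + u) / 2 + (1 - u) / 2 · z`. -/
def tauM (u : Fˣ) (z : GL ι F) : Matrix ι ι F :=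
  ((1 + (u : F)) / 2) • 1 + ((1 - (u : F)) / 2) • (z : Matrix ι ι F)

open Classical in
/-- The square root of an involution. -/
noncomputable def tau (u : Fˣ) (z : GL ι F) : GL ι F := if h : IsUnit (tauM u z) then h.unit else 1

theorem tauM_congr (u : Fˣ) {z w : GL ι F} {P : Matrix ι ι F}
    (h : (z : Matrix ι ι F) * P = (w : Matrix ι ι F) * P) : tauM u z * P = tauM u w * P := by
  simp only [tauM, add_mul, smul_mul_assoc, h]

theorem IQ.neg' {R : Subgroup (GL ι F)} {u : Fˣ} (X : Sym R u) {z : GL ι F} (h : IQ R z) : IQ R (-z) :=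
  ⟨X.mem_neg h.1, by rw [neg_mul_neg, h.2.1], fun hs => h.2.2 (by simpa using hs.neg)⟩

/-- An element commuting with `z` commutes with `1 + z`. -/
theorem commute_plus {g z : GL ι F} (h : Commute g z) : Commute (g : Matrix ι ι F) (1 + (z : Matrix ι ι F)) := by
  have : Commute (g : Matrix ι ι F) (z : Matrix ι ι F) := congrArg Units.val h.eq
  exact (Commute.one_right _).add_right this

theorem commute_minus {g z : GL ι F} (h : Commute g z) :
    Commute (g : Matrix ι ι F) (1 + ((-z : GL ι F) : Matrix ι ι F)) := commute_plus h.neg_right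

theorem self_mul_plus {z : GL ι F} (hz : z * z = 1) :
    (z : Matrix ι ι F) * (1 + (z : Matrix ι ι F)) = 1 + (z : Matrix ι ι F) := by
  rw [mul_add, mul_one, ← Units.val_mul, hz, Units.val_one, add_comm]

/-- An anticommuting unit excludes eigen-projections. -/
theorem kill {q r : GL ι F} {P : Matrix ι ι F} {c : F} (h2 : (2 : F) ≠ 0) (ha : Anti r q)
    (hP : Commute (r : Matrix ι ι F) P) (he : (q : Matrix ι ι F) * P = c • P) : P = 0 := by
  by_cases hc : c = 0
  · rw [hc, zero_smul] at he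
    have := congrArg (fun M => ((q⁻¹ : GL ι F) : Matrix ι ι F) * M) he
    simpa [← mul_assoc] using this
  have e : (r : Matrix ι ι F) * q = -((q : Matrix ι ι F) * r) := by simpa using congrArg Units.val ha
  have h1 : c • ((r : Matrix ι ι F) * P) = -(c • ((r : Matrix ι ι F) * P)) := by
    conv_lhs => rw [← mul_smul_comm, ← he, ← mul_assoc, e, neg_mul, mul_assoc, hP.eq, ← mul_assoc, he,
      smul_mul_assoc, ← hP.eq]
  have h3 : (2 * c) • ((r : Matrix ι ι F) * P) = 0 := by
    rw [mul_smul, two_smul]; exact add_eq_zero_iff_eq_neg.2 h1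
  have := congrArg (fun M => ((r⁻¹ : GL ι F) : Matrix ι ι F) * M)
    ((smul_eq_zero.1 h3).resolve_left (mul_ne_zero h2 hc))
  simpa [← mul_assoc] using this

namespace Sym

variable {R : Subgroup (GL ι F)} {u : Fˣ} (X : Sym R u)
include X

theorem tauM_mul {z : GL ι F} (hz : z * z = 1) : tauM u z * tauM u z = z := by
  have e : (z : Matrix ι ι F) * z = 1 := by rw [← Units.val_mul, hz, Units.val_one]
  have h2 := X.two
  have hu := X.iu
  simp only [tauM, add_mul, mul_add, smul_mul_smul_comm, one_mul, mul_one, e]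
  match_scalars <;> field_simp <;>
    first | linear_combination (0 : F) * hu | linear_combination (-4 : F) * hu | linear_combination (4 : F) * hu |
      linear_combination (2 : F) * hu | linear_combination (-2 : F) * hu

theorem tau_coe {z : GL ι F} (hz : z * z = 1) : (tau u z : Matrix ι ι F) = tauM u z := by
  have : IsUnit (tauM u z) := (isUnit_pow_iff (n := 2) two_ne_zero).1 (by
    rw [pow_two, X.tauM_mul hz]; exact z.isUnit)
  rw [tau, dif_pos this, IsUnit.unit_spec]

theorem tau_sq {z : GL ι F} (hz : z * z = 1) : tau u z * tau u z = z :=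
  Units.ext (by rw [Units.val_mul, X.tau_coe hz, X.tauM_mul hz])

theorem tau_commute {g z : GL ι F} (hz : z * z = 1) (h : Commute g z) : Commute g (tau u z) := by
  refine Units.ext ?_
  have e : (g : Matrix ι ι F) * z = z * g := congrArg Units.val h.eq
  simp only [Units.val_mul, X.tau_coe hz, tauM, mul_add, add_mul, mul_smul_comm, smul_mul_assoc, mul_one, one_mul, e]

theorem tau_conj {z : GL ι F} (hz : z * z = 1) (g : GL ι F) : g * tau u z * g⁻¹ = tau u (g * z * g⁻¹) := by
  have hz' : g * z * g⁻¹ * (g * z * g⁻¹) = 1 := by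
    rw [show g * z * g⁻¹ * (g * z * g⁻¹) = g * (z * z) * g⁻¹ by group, hz, mul_one, mul_inv_cancel]
  rw [mul_inv_eq_iff_eq_mul]
  refine Units.ext ?_
  simp only [Units.val_mul, X.tau_coe hz, X.tau_coe hz', tauM, mul_add, add_mul, mul_smul_comm, smul_mul_assoc,
    mul_one, one_mul]
  rw [mul_assoc _ _ (g : Matrix ι ι F), ← Units.val_mul g⁻¹ g, inv_mul_cancel, Units.val_one, mul_one]

theorem tau_anti {r z : GL ι F} (hz : z * z = 1) (h : Anti r z) :
    tau u z * r * (tau u z)⁻¹ = sc (-u) * (z * r) := by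
  rw [mul_inv_eq_iff_eq_mul]
  refine Units.ext ?_
  have e : (r : Matrix ι ι F) * z = -((z : Matrix ι ι F) * r) := by simpa using congrArg Units.val h
  have e' : (z : Matrix ι ι F) * r * z = -(r : Matrix ι ι F) := by
    rw [mul_assoc, e, mul_neg, ← mul_assoc, ← Units.val_mul, hz, Units.val_one, one_mul]
  have h2 := X.two
  have hu := X.iu
  simp only [Units.val_mul, X.tau_coe hz, coe_sc, tauM, mul_add, add_mul, mul_smul_comm, smul_mul_assoc,
    mul_one, one_mul, e', Units.val_neg]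
  match_scalars <;> field_simp
  all_goals
    first | linear_combination (2 : F) * hu | linear_combination (-2 : F) * hu | linear_combination (1 : F) * hu |
      linear_combination (-1 : F) * hu

theorem tau_commutator {r z : GL ι F} (hz : z * z = 1) (h : Anti r z) :
    tau u z * r * (tau u z)⁻¹ * r⁻¹ = sc (-u) * z := by
  rw [X.tau_anti hz h, mul_assoc, mul_inv_cancel_right]

theorem tau_norm {z : GL ι F} (hz : IQ R z) : tau u z ∈ normalizer (R : Set (GL ι F)) := by
  refine X.mem_norm fun r hr => ?_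
  rcases X.comm r hr z hz.1 with h | h
  · rw [← (X.tau_commute hz.2.1 h).eq, mul_inv_cancel_right]; exact hr
  · rw [X.tau_anti hz.2.1 h, sc_neg, neg_mul]
    exact X.mem_neg (mul_mem X.unit (mul_mem hz.1 hr))

/-- An involution of trace zero with a normalising square root belongs to `R`. -/
theorem pull {e : GL ι F} (hee : e * e = 1) (htr : Matrix.trace (e : Matrix ι ι F) = 0)
    (he : tau u e ∈ normalizer (R : Set (GL ι F))) : e ∈ R := by
  obtain ⟨r, hr, hra⟩ := X.anti_norm (X.tau_sq hee ▸ mul_mem he he) hee htr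
  have h1 : sc (-u) * e ∈ R := by
    rw [← X.tau_commutator hee hra]
    exact mul_mem ((Subgroup.mem_normalizer_iff.1 he r).1 hr) (inv_mem hr)
  rw [sc_neg, neg_mul] at h1
  have := X.mem_neg h1
  rw [neg_neg] at this
  exact (Subgroup.mul_mem_cancel_left _ X.unit).1 this

theorem trace_plus {z : GL ι F} (hz : z ∈ R) (hn : ¬ Scal z) :
    Matrix.trace (1 + (z : Matrix ι ι F)) = (Fintype.card ι : F) := by
  rw [Matrix.trace_add, X.trace_eq_zero hz hn, Matrix.trace_one, add_zero]

theorem plus_ne {z : GL ι F} (hz : IQ R z) : 1 + (z : Matrix ι ι F) ≠ 0 := fun h => X.ncard (by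
  rw [← X.trace_plus hz.1 hz.2.2, h, Matrix.trace_zero])

theorem plus_plus_ne {z h : GL ι F} (hz : IQ R z) (hh : IQ R h) (hn : ¬ Scal (h * z)) :
    (1 + (h : Matrix ι ι F)) * (1 + (z : Matrix ι ι F)) ≠ 0 := fun e => X.ncard (by
  have e1 := congrArg Matrix.trace e
  rw [add_mul, one_mul, mul_add, mul_one, ← Units.val_mul, Matrix.trace_add, Matrix.trace_add,
    Matrix.trace_add, Matrix.trace_one, X.trace_eq_zero hz.1 hz.2.2, X.trace_eq_zero hh.1 hh.2.2,
    X.trace_eq_zero (mul_mem hh.1 hz.1) hn, Matrix.trace_zero] at e1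
  simpa using e1)

theorem ext_plus {A B : Matrix ι ι F} {z : GL ι F} (h1 : A * (1 + (z : Matrix ι ι F)) = B * (1 + (z : Matrix ι ι F)))
    (h2 : A * (1 + ((-z : GL ι F) : Matrix ι ι F)) = B * (1 + ((-z : GL ι F) : Matrix ι ι F))) : A = B := by
  refine smul_right_injective (Matrix ι ι F) X.two ?_
  simp only [Units.val_neg, mul_add, mul_one, mul_neg] at h1 h2
  simp only [two_smul]
  linear_combination (norm := abel) h1 + h2

end Sym

/-- The local hypotheses on an overgroup. -/
structure Loc (R H : Subgroup (GL ι F)) (u : Fˣ) : Prop where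
  sub : R ≤ H
  tau_mem : ∀ z, IQ R z → tau u z ∈ H
  proj : ∀ z, IQ R z → ∀ k ∈ H, Commute k z → ∀ r ∈ R, Commute r z → ∃ r' ∈ R, Commute r' z ∧
    ((k * r * k⁻¹ : GL ι F) : Matrix ι ι F) * (1 + (z : Matrix ι ι F)) =
      (r' : Matrix ι ι F) * (1 + (z : Matrix ι ι F))

namespace Loc

variable {R H : Subgroup (GL ι F)} {u : Fˣ} (L : Loc R H u) (X : Sym R u)
include L X

/-- The image of an involution on an eigenspace, as an element of `R` with square one. -/
theorem image {k z w : GL ι F} (hk : k ∈ H) (kz : Commute k z) (hz : IQ R z) (hw : IQ R w) (wz : Commute w z)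
    (hind : ∃ r ∈ R, Commute r z ∧ Anti r w) :
    ∃ w' ∈ R, Commute w' z ∧ w' * w' = 1 ∧
      ((k * w * k⁻¹ : GL ι F) : Matrix ι ι F) * (1 + (z : Matrix ι ι F)) =
        (w' : Matrix ι ι F) * (1 + (z : Matrix ι ι F)) ∧
      ∀ c : F, (w' : Matrix ι ι F) * (1 + (z : Matrix ι ι F)) ≠ c • (1 + (z : Matrix ι ι F)) := by
  obtain ⟨w', hw', w'z, e⟩ := L.proj z hz k hk kz w hw.1 wz
  set P : Matrix ι ι F := 1 + (z : Matrix ι ι F) with hP
  have hP0 : P ≠ 0 := X.plus_ne hz
  have cw' : Commute (w' : Matrix ι ι F) P := commute_plus w'z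
  have ck : Commute (k : Matrix ι ι F) P := commute_plus kz
  set K : GL ι F := k * w * k⁻¹ with hK
  have hKK : K * K = 1 := by
    rw [hK, show k * w * k⁻¹ * (k * w * k⁻¹) = k * (w * w) * k⁻¹ by group, hw.2.1, mul_one, mul_inv_cancel]
  have h2 : ((w' * w' : GL ι F) : Matrix ι ι F) * P = P := by
    calc ((w' * w' : GL ι F) : Matrix ι ι F) * P = (w' : Matrix ι ι F) * P * w' := by
          conv_lhs => rw [Units.val_mul, mul_assoc, cw'.eq, ← mul_assoc]
      _ = (K : Matrix ι ι F) * (P * w') := by rw [← e, mul_assoc]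
      _ = (K : Matrix ι ι F) * ((K : Matrix ι ι F) * P) := by rw [← cw'.eq, ← e]
      _ = P := by rw [← mul_assoc, ← Units.val_mul, hKK, Units.val_one, one_mul]
  refine ⟨w', hw', w'z, ?_, e, fun c hc => ?_⟩
  · refine (X.sq w' hw').resolve_right fun h => hP0 ?_
    rw [h, Units.val_neg, Units.val_one, neg_one_mul] at h2
    have : (2 : F) • P = 0 := by rw [two_smul]; exact add_eq_zero_iff_eq_neg.2 h2.symm
    exact (smul_eq_zero.1 this).resolve_left X.two
  · obtain ⟨r, -, rz, ra⟩ := hind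
    have h3 : (w : Matrix ι ι F) * P = c • P := by
      have h4 := congrArg (fun M => ((k⁻¹ : GL ι F) : Matrix ι ι F) * M * (k : Matrix ι ι F)) (e.trans hc)
      simp only [mul_smul_comm, smul_mul_assoc] at h4
      rw [mul_assoc, mul_assoc, ← ck.eq, ← mul_assoc (K : Matrix ι ι F), ← Units.val_mul,
        show K * k = k * w by rw [hK]; group, Units.val_mul, mul_assoc (k : Matrix ι ι F), ← mul_assoc,
        ← Units.val_mul, inv_mul_cancel, Units.val_one, one_mul, mul_assoc, ← ck.eq, ← mul_assoc,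
        ← Units.val_mul, inv_mul_cancel, Units.val_one, one_mul] at h4
      exact h4
    exact hP0 (kill X.two ra (commute_plus rz) h3)

/-- Centralised involutions of `R` are mapped into `R`. -/
theorem fact {k z w : GL ι F} (hk : k ∈ H) (kz : Commute k z) (hz : IQ R z) (hw : IQ R w) (wz : Commute w z)
    (hind : ∃ r ∈ R, Commute r z ∧ Anti r w) : k * w * k⁻¹ ∈ R := by
  obtain ⟨w', hw', w'z, w'w', e1, nl1⟩ := L.image X hk kz hz hw wz hind
  obtain ⟨w'', hw'', w''z, w''w'', e2, nl2⟩ := L.image X hk kz.neg_right (hz.neg' X) hw wz.neg_right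
    (hind.imp fun r ⟨hr, rz, ra⟩ => ⟨hr, rz.neg_right, ra⟩)
  replace w''z : Commute w'' z := by simpa using w''z.neg_right
  set P : Matrix ι ι F := 1 + (z : Matrix ι ι F) with hP
  set N : Matrix ι ι F := 1 + ((-z : GL ι F) : Matrix ι ι F) with hN
  set K : GL ι F := k * w * k⁻¹ with hK
  have hKK : K * K = 1 := by
    rw [hK, show k * w * k⁻¹ * (k * w * k⁻¹) = k * (w * w) * k⁻¹ by group, hw.2.1, mul_one, mul_inv_cancel]
  have zP : (z : Matrix ι ι F) * P = P := self_mul_plus hz.2.1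
  have zN : ((-z : GL ι F) : Matrix ι ι F) * N = N := self_mul_plus (hz.neg' X).2.1
  have Kz : Commute K z := (kz.mul_left wz).mul_left kz.inv_left
  have nlP : ∀ {x : GL ι F}, Scal x → ∀ y : GL ι F, (y : Matrix ι ι F) * P = P →
      ¬ (w' = x * y) := fun {x} hx y hy hxy => by
    obtain ⟨c, rfl⟩ := hx
    refine nl1 (c : F) ?_
    rw [hxy, Units.val_mul, mul_assoc, hy, coe_sc, smul_mul_assoc, one_mul]
  by_cases hsp : ∀ r ∈ R, Commute r z → Commute r w'' → Commute r w'
  · have hlin : ∃ c : F, (w' : Matrix ι ι F) * P = c • ((w'' : Matrix ι ι F) * P) := by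
      rcases X.gen_two hw' hz.1 hw'' hsp with h | h | h | h
      · exact absurd (mul_one w').symm (nlP h 1 (one_mul P))
      · exact absurd (by rw [mul_assoc, hz.2.1, mul_one] : w' = w' * z * z) (nlP h z zP)
      · obtain ⟨c, hc⟩ := h
        refine ⟨(c : F), ?_⟩
        rw [show w' = sc c * w'' by rw [← hc, mul_assoc, w''w'', mul_one], Units.val_mul, coe_sc, smul_mul_assoc,
          one_mul, smul_mul_assoc]
      · obtain ⟨c, hc⟩ := h
        refine ⟨(c : F), ?_⟩
        rw [show w' = sc c * (w'' * z) by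
            rw [← hc, mul_assoc (w' * w''), ← mul_assoc z w'' z, ← w''z.eq, mul_assoc w'' z z, hz.2.1, mul_one,
              mul_assoc w', w''w'', mul_one],
          Units.val_mul, Units.val_mul, coe_sc, smul_mul_assoc, one_mul, smul_mul_assoc, mul_assoc, zP]
    obtain ⟨c, hc⟩ := hlin
    have cP : Commute (w'' : Matrix ι ι F) P := commute_plus w''z
    have cP' : Commute (w' : Matrix ι ι F) P := commute_plus w'z
    have hcc : c * c = 1 := by
      have h5 : (c * c) • P = (1 : F) • P := by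
        rw [one_smul]
        calc (c * c) • P = (c * c) • ((w'' : Matrix ι ι F) * ((w'' : Matrix ι ι F) * P)) := by
              rw [← mul_assoc, ← Units.val_mul, w''w'', Units.val_one, one_mul]
          _ = c • ((w'' : Matrix ι ι F) * (c • ((w'' : Matrix ι ι F) * P))) := by rw [mul_smul_comm, smul_smul]
          _ = c • ((w'' : Matrix ι ι F) * ((w' : Matrix ι ι F) * P)) := by rw [hc]
          _ = c • ((w'' : Matrix ι ι F) * P * w') := by rw [cP'.eq, mul_assoc]
          _ = (w' : Matrix ι ι F) * P * w' := by rw [hc, smul_mul_assoc]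
          _ = P := by rw [mul_assoc, ← cP'.eq, ← mul_assoc, ← Units.val_mul, w'w', Units.val_one, one_mul]
      exact smul_left_injective F (X.plus_ne hz) h5
    rcases mul_self_eq_one_iff.1 hcc with rfl | rfl
    · rw [one_smul] at hc
      rw [show K = w'' from Units.ext (X.ext_plus (e1.trans hc) e2)]
      exact hw''
    · rw [show K = -(w'' * z) from Units.ext (X.ext_plus (z := z) ?_ ?_)]
      · exact X.mem_neg (mul_mem hw'' hz.1)
      · rw [e1, hc, neg_one_smul, Units.val_neg, Units.val_mul, neg_mul, mul_assoc, zP]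
      · rw [← mul_neg, Units.val_mul w'' (-z), mul_assoc (w'' : Matrix ι ι F), zN]
        exact e2
  push Not at hsp
  obtain ⟨v₀, hv₀, v₀z, v₀w'', v₀w'⟩ := hsp
  have nlN : ∀ {x : GL ι F}, Scal x → ∀ y : GL ι F, (y : Matrix ι ι F) * N = N →
      ¬ (w'' = x * y) := fun {x} hx y hy hxy => by
    obtain ⟨c, rfl⟩ := hx
    refine nl2 (c : F) ?_
    rw [hxy, Units.val_mul, mul_assoc, hy, coe_sc, smul_mul_assoc, one_mul]
  have hiq'' : IQ R w'' := ⟨hw'', w''w'', fun h => nlN h 1 (one_mul N) (mul_one _).symm⟩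
  obtain ⟨h, v, hh, hz', hw₁, hw₂, hhz, hv, vz, vh, vw'', va⟩ : ∃ h v, IQ R h ∧ Commute h z ∧ Commute h w' ∧
      Commute h w'' ∧ ¬ Scal (h * z) ∧ v ∈ R ∧ Commute v z ∧ Commute v h ∧ Commute v w'' ∧ Anti v w' := by
    rcases X.comm w' hw' w'' hw'' with hc | hc
    · refine ⟨w'', v₀, hiq'', w''z, hc.symm, Commute.refl _, fun hs => ?_, hv₀, v₀z, v₀w'', v₀w'',
        (X.comm v₀ hv₀ w' hw').resolve_left v₀w'⟩
      refine nlN hs.neg (-z) zN ?_
      rw [neg_mul_neg, mul_assoc, hz.2.1, mul_one]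
    · obtain ⟨h, hh, h1, h2, h3, r, -, rz, -, ra⟩ := X.exists_out hz.1 hw' hw'' hz.1 hz.1
      refine ⟨h, w'', hh, h1, h2, h3, fun hs => ?_, hw'', w''z, h3.symm, Commute.refl _, hc.symm⟩
      exact X.not_scal_of_anti (ra.mul_comm' rz) hs
  have hnP := X.plus_plus_ne hz hh hhz
  have hnN := X.plus_plus_ne (hz.neg' X) hh (fun hs => hhz (by simpa using hs.neg))
  have hy : k * tau u w * k⁻¹ * (tau u w'')⁻¹ ∈ H :=
    mul_mem (mul_mem (mul_mem hk (L.tau_mem w hw)) (inv_mem hk)) (inv_mem (L.tau_mem w'' hiq''))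
  rw [X.tau_conj hw.2.1] at hy
  set y : GL ι F := tau u K * (tau u w'')⁻¹ with hydef
  set y' : GL ι F := tau u w' * (tau u w'')⁻¹ with hy'
  have tK : Commute (tau u K) z := (X.tau_commute hKK Kz.symm).symm
  have t' : Commute (tau u w') z := (X.tau_commute w'w' w'z.symm).symm
  have t'' : Commute (tau u w'') z := (X.tau_commute w''w'' w''z.symm).symm
  have yz : Commute y z := tK.mul_left t''.inv_left
  have yP : (y : Matrix ι ι F) * P = (y' : Matrix ι ι F) * P := by
    have h6 := tauM_congr u e1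
    rw [hydef, hy', Units.val_mul, Units.val_mul, mul_assoc, (commute_plus t''.inv_left).eq, ← mul_assoc,
      X.tau_coe hKK, h6, ← X.tau_coe w'w', mul_assoc, ← (commute_plus t''.inv_left).eq, mul_assoc]
  have yN : (y : Matrix ι ι F) * N = N := by
    have h6 := tauM_congr u e2
    rw [hydef, Units.val_mul, mul_assoc, (commute_minus t''.inv_left).eq, ← mul_assoc, X.tau_coe hKK, h6,
      ← X.tau_coe w''w'', (commute_minus t'').eq, mul_assoc, ← Units.val_mul, mul_inv_cancel, Units.val_one,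
      mul_one]
  have y'h : Commute y' h := ((X.tau_commute w'w' hw₁).symm).mul_left ((X.tau_commute w''w'' hw₂).symm).inv_left
  have hPh : Commute (h : Matrix ι ι F) P := commute_plus hz'
  have hNh : Commute (h : Matrix ι ι F) N := commute_minus hz'
  have yh : Commute y h := by
    refine Units.ext (X.ext_plus (z := z) ?_ ?_)
    · simp only [Units.val_mul, mul_assoc]
      rw [hPh.eq, ← mul_assoc, yP, mul_assoc, ← hPh.eq, ← mul_assoc, ← Units.val_mul, y'h.eq, Units.val_mul,
        mul_assoc, ← yP]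
    · simp only [Units.val_mul, mul_assoc]
      rw [hNh.eq, ← mul_assoc, yN, hNh.eq]
  obtain ⟨r', hr', -, e3⟩ := L.proj h hh y hy yh v hv vh
  have cv : sc (-u) * (w' * v) = y' * v * y'⁻¹ := by
    rw [hy', ← X.tau_anti w'w' va, show tau u w' * (tau u w'')⁻¹ * v * (tau u w' * (tau u w'')⁻¹)⁻¹ =
      tau u w' * ((tau u w'')⁻¹ * v * tau u w'') * (tau u w')⁻¹ by group,
      mul_assoc _ v (tau u w''), (X.tau_commute w''w'' vw'').eq, inv_mul_cancel_left]
  set Q : Matrix ι ι F := 1 + (h : Matrix ι ι F) with hQ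
  have vQ : Commute (v : Matrix ι ι F) Q := commute_plus vh
  have cQP : Commute Q P := (Commute.one_left P).add_left (commute_plus (g := h) hz')
  have cQN : Commute Q N := (Commute.one_left N).add_left (commute_minus (g := h) hz')
  have yN' : ((y⁻¹ : GL ι F) : Matrix ι ι F) * N = N := by
    conv_lhs => rw [← yN, ← mul_assoc, ← Units.val_mul, inv_mul_cancel, Units.val_one, one_mul]
  have fN : ((y * v * y⁻¹ : GL ι F) : Matrix ι ι F) * N = (v : Matrix ι ι F) * N := by
    rw [Units.val_mul, Units.val_mul, mul_assoc, yN', mul_assoc, (commute_minus vz).eq, ← mul_assoc, yN]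
  have fP : ((y * v * y⁻¹ : GL ι F) : Matrix ι ι F) * P = ((sc (-u) * (w' * v) : GL ι F) : Matrix ι ι F) * P := by
    have h7 : (y : Matrix ι ι F) * (v : Matrix ι ι F) * P = ((sc (-u) * (w' * v) : GL ι F) : Matrix ι ι F) *
        ((y : Matrix ι ι F) * P) := by
      rw [mul_assoc, (commute_plus vz).eq, ← mul_assoc, yP, mul_assoc, ← (commute_plus vz).eq, ← mul_assoc,
        ← mul_assoc, ← Units.val_mul, ← Units.val_mul, cv, inv_mul_cancel_right]
    rw [Units.val_mul, Units.val_mul, mul_assoc, (commute_plus yz.inv_left).eq, ← mul_assoc, h7, mul_assoc,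
      (commute_plus yz).eq, mul_assoc P, ← Units.val_mul, mul_inv_cancel, Units.val_one, mul_one]
  set q : GL ι F := r' * v⁻¹ with hq
  have hqR : q ∈ R := mul_mem hr' (inv_mem hv)
  have base : ∀ {B : Matrix ι ι F} (x : GL ι F), Commute (v : Matrix ι ι F) B → Commute Q B →
      ((y * v * y⁻¹ : GL ι F) : Matrix ι ι F) * B = ((x * v : GL ι F) : Matrix ι ι F) * B →
      (q : Matrix ι ι F) * (Q * B) = (x : Matrix ι ι F) * (Q * B) := fun {B} x vB qB hB => by
    have vC : Commute (v : Matrix ι ι F) (Q * B) := vQ.mul_right vB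
    have h8 : (r' : Matrix ι ι F) * (Q * B) = ((x * v : GL ι F) : Matrix ι ι F) * (Q * B) := by
      rw [← mul_assoc, ← e3, mul_assoc, qB.eq, ← mul_assoc, hB, mul_assoc]
    rw [hq, Units.val_mul, mul_assoc, (vC.units_inv_left).eq, ← mul_assoc, h8, Units.val_mul, mul_assoc,
      mul_assoc, ← (vC.units_inv_left).eq, ← mul_assoc (v : Matrix ι ι F), ← Units.val_mul, mul_inv_cancel,
      Units.val_one, one_mul]
  have qN := base 1 (commute_minus vz) cQN (by rw [one_mul]; exact fN)
  have qP := base (sc (-u) * w') (commute_plus vz) cQP (by rw [mul_assoc (sc (-u)) w' v]; exact fP)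
  have hspan : ∀ r ∈ R, Commute r z → Commute r h → Commute r q := fun r hr rz rh =>
    (X.comm r hr q hqR).resolve_right fun ra => hnN (kill X.two ra
      ((commute_plus rh).mul_right (commute_minus rz)) (c := 1) (by rw [qN, Units.val_one, one_mul, one_smul]))
  have zQ : (z : Matrix ι ι F) * (Q * P) = Q * P := by
    rw [← mul_assoc, (commute_plus hz'.symm).eq, mul_assoc, zP]
  have hQP : (h : Matrix ι ι F) * (Q * P) = Q * P := by rw [← mul_assoc, self_mul_plus hh.2.1]
  obtain ⟨c, hc⟩ : ∃ c : F, (q : Matrix ι ι F) * (Q * P) = c • (Q * P) := by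
    have key : ∀ {x : GL ι F}, Scal x → ∀ y₁ : GL ι F, (y₁ : Matrix ι ι F) * (Q * P) = Q * P → q = x * y₁ →
        ∃ c : F, (q : Matrix ι ι F) * (Q * P) = c • (Q * P) := fun {x} hx y₁ hy₁ e => by
      obtain ⟨c, rfl⟩ := hx
      exact ⟨c, by rw [e, Units.val_mul, mul_assoc, hy₁, coe_sc, smul_mul_assoc, one_mul]⟩
    rcases X.gen_two hqR hz.1 hh.1 hspan with g | g | g | g
    · exact key g 1 (one_mul _) (mul_one q).symm
    · exact key g z zQ (by rw [mul_assoc, hz.2.1, mul_one])
    · exact key g h hQP (by rw [mul_assoc, hh.2.1, mul_one])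
    · refine key g (z * h) (by rw [Units.val_mul, mul_assoc, hQP, zQ]) ?_
      rw [mul_assoc (q * h), ← mul_assoc z z h, hz.2.1, one_mul, mul_assoc, hh.2.1, mul_one]
  refine absurd (kill X.two va ((commute_plus vh).mul_right (commute_plus vz)) (c := ((-u : Fˣ) : F)⁻¹ * c) ?_) hnP
  rw [qP, Units.val_mul, coe_sc, smul_mul_assoc, one_mul, smul_mul_assoc] at hc
  rw [mul_smul, ← hc, smul_smul, inv_mul_cancel₀ (Units.ne_zero _), one_smul]

theorem map_cent {k z r : GL ι F} (hk : k ∈ H) (kz : Commute k z) (hz : IQ R z) (hr : r ∈ R) (rz : Commute r z) :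
    k * r * k⁻¹ ∈ R := by
  by_cases hs : Scal r ∨ Scal (r * z)
  · have : Commute k r := by
      rcases hs with hs | hs
      · exact (hs.commute k).symm
      · rw [show r = r * z * z by rw [mul_assoc, hz.2.1, mul_one]]
        exact (hs.commute k).symm.mul_right kz
    rw [this.eq, mul_inv_cancel_right]; exact hr
  push Not at hs
  obtain ⟨c, hc, hi⟩ := X.scale hr hs.1
  obtain ⟨x, hx, xz, xa⟩ : ∃ x ∈ R, Commute x z ∧ Anti x r := by
    by_contra! hh
    rcases X.gen_one hr hz.1 (fun x hx xz => (X.comm x hx r hr).resolve_right (hh x hx xz)) with h | h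
    exacts [hs.1 h, hs.2 h]
  have := L.fact X hk kz hz hi ((commute_sc c z).mul_left rz) ⟨x, hx, xz, xa.sc_mul c⟩
  rw [show k * (sc c * r) * k⁻¹ = sc c * (k * r * k⁻¹) by
    rw [← mul_assoc k, ← (commute_sc c k).eq]; group] at this
  exact (Subgroup.mul_mem_cancel_left _ hc).1 this

/-- The centraliser in the overgroup of a non-central involution normalises `R`. -/
theorem cent {k z : GL ι F} (hk : k ∈ H) (hz : IQ R z) (kz : Commute k z) :
    k ∈ normalizer (R : Set (GL ι F)) := by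
  obtain ⟨w₀, hw₀, w₀z, -, -, r₀, hr₀, r₀z, -, ra₀⟩ := X.exists_out hz.1 hz.1 hz.1 hz.1 hz.1
  have h1 := L.map_cent X hk kz hz hw₀.1 w₀z
  set w₁ := k * w₀ * k⁻¹ with hw₁
  have hz0 : ¬ Scal w₀ := hw₀.2.2
  have hw₁i : IQ R w₁ := ⟨h1, by
    rw [hw₁, show k * w₀ * k⁻¹ * (k * w₀ * k⁻¹) = k * (w₀ * w₀) * k⁻¹ by group, hw₀.2.1, mul_one, mul_inv_cancel],
    fun hs => hz0 (by
      have e : k * w₀ = k * w₁ := by rw [(hs.commute k).symm.eq, hw₁]; group
      rwa [mul_left_cancel e])⟩
  have w₁z : Commute w₁ z := (kz.mul_left w₀z).mul_left kz.inv_left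
  have r₁a : Anti (k * r₀ * k⁻¹) w₁ := ra₀.conj k
  have hr₁ := L.map_cent X hk kz hz hr₀ r₀z
  have r₁z : Commute (k * r₀ * k⁻¹) z := (kz.mul_left r₀z).mul_left kz.inv_left
  have move : ∀ {a b : GL ι F}, IQ R a → IQ R b → Commute a z → Commute b z → Anti a b →
      ∃ n ∈ H, n ∈ normalizer (R : Set (GL ι F)) ∧ Commute n z ∧ n * b * n⁻¹ = a := fun {a b} ha hb az bz hab => by
    have habn : ¬ Scal (a * b) := X.not_scal_of_anti (hab.symm.mul_comm' (Commute.refl b))
    have hee : (sc u * (a * b)) * (sc u * (a * b)) = 1 := by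
      have h5 : a * b * (a * b) = -1 := by
        rw [show a * b * (a * b) = a * (b * a) * b by group, show b * a = -(a * b) from hab.symm]
        simp [← mul_assoc, ha.2.1, hb.2.1]
      rw [mul_assoc, ← mul_assoc (a * b) (sc u), ← (commute_sc u (a * b)).eq, mul_assoc (sc u), ← mul_assoc,
        X.u_mul_u, h5, neg_mul_neg, one_mul]
    have he : IQ R (sc u * (a * b)) := ⟨mul_mem X.unit (mul_mem ha.1 hb.1), hee, fun hs => habn (by
      have := (scal_sc u).inv.mul hs
      rwa [inv_mul_cancel_left] at this)⟩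
    refine ⟨_, L.tau_mem _ he, X.tau_norm he,
      (X.tau_commute hee (((commute_sc u z).mul_left (az.mul_left bz)).symm)).symm, ?_⟩
    rw [X.tau_anti hee ((hab.symm.mul_comm' (Commute.refl b)).sc_mul u), mul_assoc (sc u), ← mul_assoc (sc (-u)),
      ← map_mul, mul_assoc a, hb.2.1, mul_one, show -u * u = 1 from Units.ext (by simp [X.iu]), map_one, one_mul]
  obtain ⟨n, hnH, hn, nz, hnw⟩ : ∃ n ∈ H, n ∈ normalizer (R : Set (GL ι F)) ∧ Commute n z ∧ n * w₁ * n⁻¹ = w₀ := by
    rcases X.comm w₀ hw₀.1 w₁ h1 with hc | hc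
    · obtain ⟨x, hx, xz, x0, x1⟩ : ∃ x ∈ R, Commute x z ∧ Anti x w₀ ∧ Anti x w₁ := by
        rcases X.comm r₀ hr₀ w₁ h1 with a1 | a1
        · rcases X.comm (k * r₀ * k⁻¹) hr₁ w₀ hw₀.1 with b1 | b1
          · exact ⟨r₀ * (k * r₀ * k⁻¹), mul_mem hr₀ hr₁, r₀z.mul_left r₁z,
              (ra₀.symm.mul_comm' b1.symm).symm, (Anti.comm_mul' a1.symm r₁a.symm).symm⟩
          · exact ⟨_, hr₁, r₁z, b1, r₁a⟩
        · exact ⟨r₀, hr₀, r₀z, ra₀, a1⟩
      obtain ⟨c, -, hi⟩ := X.scale hx (X.not_scal_of_anti x0.symm)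
      have hiz : Commute (sc c * x) z := (commute_sc c z).mul_left xz
      obtain ⟨n₁, h11, h12, h13, h14⟩ := move hi hw₁i hiz w₁z ((x1.symm.sc_mul c).symm)
      obtain ⟨n₂, h21, h22, h23, h24⟩ := move hw₀ hi w₀z hiz (x0.symm.sc_mul c)
      refine ⟨n₂ * n₁, mul_mem h21 h11, mul_mem h22 h12, h23.mul_left h13, ?_⟩
      rw [show n₂ * n₁ * w₁ * (n₂ * n₁)⁻¹ = n₂ * (n₁ * w₁ * n₁⁻¹) * n₂⁻¹ by group, h14, h24]
    · exact move hw₀ hw₁i w₀z w₁z hc
  have hm : n * k ∈ H := mul_mem hnH hk
  have mw : Commute (n * k) w₀ := by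
    have : n * k * w₀ * (n * k)⁻¹ = w₀ := by
      rw [show n * k * w₀ * (n * k)⁻¹ = n * (k * w₀ * k⁻¹) * n⁻¹ by group, ← hw₁, hnw]
    exact mul_inv_eq_iff_eq_mul.1 this
  suffices hnk : n * k ∈ normalizer (R : Set (GL ι F)) by
    have := mul_mem (inv_mem hn) hnk
    rwa [inv_mul_cancel_left] at this
  refine X.mem_norm fun r hr => ?_
  rcases X.comm r hr w₀ hw₀.1 with h | h
  · exact L.map_cent X hm mw hw₀ hr h
  rcases X.comm r hr z hz.1 with h' | h'
  · exact L.map_cent X hm (nz.mul_left kz) hz hr h'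
  have e := L.map_cent X hm mw hw₀ (mul_mem hr hr₀) (h.symm.mul_anti ra₀.symm).symm
  have e' := L.map_cent X hm (nz.mul_left kz) hz hr₀ r₀z
  have := mul_mem e (inv_mem e')
  rwa [show n * k * (r * r₀) * (n * k)⁻¹ * (n * k * r₀ * (n * k)⁻¹)⁻¹ = n * k * r * (n * k)⁻¹ by group] at this

end Loc

/-- A conjugate subgroup. -/
def cj (g : GL ι F) (R : Subgroup (GL ι F)) : Subgroup (GL ι F) := R.map (MulAut.conj g).toMonoidHom

theorem mem_cj {g x : GL ι F} {R : Subgroup (GL ι F)} : x ∈ cj g R ↔ g⁻¹ * x * g ∈ R := by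
  constructor
  · rintro ⟨y, hy, rfl⟩
    show g⁻¹ * (g * y * g⁻¹) * g ∈ R
    rwa [show g⁻¹ * (g * y * g⁻¹) * g = y by group]
  · exact fun h => ⟨_, h, by show g * (g⁻¹ * x * g) * g⁻¹ = x; group⟩

theorem scal_conj {g x : GL ι F} (h : Scal x) : g⁻¹ * x * g = x := by
  rw [mul_assoc, (h.commute g).eq, inv_mul_cancel_left]

theorem IQ.down {g x : GL ι F} {R : Subgroup (GL ι F)} (h : IQ (cj g R) x) : IQ R (g⁻¹ * x * g) :=
  ⟨mem_cj.1 h.1, by rw [show g⁻¹ * x * g * (g⁻¹ * x * g) = g⁻¹ * (x * x) * g by group, h.2.1, mul_one, inv_mul_cancel],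
    fun hs => h.2.2 (by
      have := scal_conj (g := g⁻¹) hs
      rw [inv_inv, show g * (g⁻¹ * x * g) * g⁻¹ = x by group] at this
      rwa [← this] at hs)⟩

theorem Sym.conj {R : Subgroup (GL ι F)} {u : Fˣ} (X : Sym R u) (g : GL ι F) : Sym (cj g R) u where
  two := X.two
  ncard := X.ncard
  fin := by
    haveI := X.fin
    exact Finite.of_equiv _ (R.equivMapOfInjective _ (MulAut.conj g).injective).toEquiv
  iu := X.iu
  unit := mem_cj.2 (by rw [scal_conj (scal_sc u)]; exact X.unit)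
  comm x hx y hy := by
    rcases X.comm _ (mem_cj.1 hx) _ (mem_cj.1 hy) with h | h
    · left
      have := h.map (MulAut.conj g).toMonoidHom
      simpa [mul_assoc] using this
    · right
      have := h.conj g
      simpa [mul_assoc] using this
  sq x hx := by
    have := (X.sq _ (mem_cj.1 hx)).conj g
    rwa [show g * (g⁻¹ * x * g * (g⁻¹ * x * g)) * g⁻¹ = x * x by group, mul_one, mul_inv_cancel] at this
  irr M hM := by
    obtain ⟨c, hc⟩ := X.irr (((g⁻¹ : GL ι F) : Matrix ι ι F) * M * (g : Matrix ι ι F)) fun s hs => by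
      have h := congrArg (fun N => ((g⁻¹ : GL ι F) : Matrix ι ι F) * N * (g : Matrix ι ι F))
        (hM (g * s * g⁻¹) (mem_cj.2 (by rwa [show g⁻¹ * (g * s * g⁻¹) * g = s by group])))
      simp only [Units.val_mul, ← mul_assoc, Units.inv_mul, one_mul] at h ⊢
      simpa [mul_assoc] using h
    refine ⟨c, ?_⟩
    have := congrArg (fun N => (g : Matrix ι ι F) * N * ((g⁻¹ : GL ι F) : Matrix ι ι F)) hc
    simpa [mul_assoc] using this
  order := by
    rw [show Nat.card (cj g R) = Nat.card R from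
      (Nat.card_congr (R.equivMapOfInjective _ (MulAut.conj g).injective).toEquiv).symm]
    exact X.order

theorem Loc.conj {R H : Subgroup (GL ι F)} {u : Fˣ} (L : Loc R H u) (X : Sym R u) {g : GL ι F} (hg : g ∈ H) :
    Loc (cj g R) H u where
  sub x hx := by
    have := mul_mem (mul_mem hg (L.sub (mem_cj.1 hx))) (inv_mem hg)
    rwa [show g * (g⁻¹ * x * g) * g⁻¹ = x by group] at this
  tau_mem z hz := by
    have := mul_mem (mul_mem hg (L.tau_mem _ hz.down)) (inv_mem hg)
    rwa [X.tau_conj hz.down.2.1, show g * (g⁻¹ * z * g) * g⁻¹ = z by group] at this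
  proj z hz k hk kz r hr rz := by
    have cc : ∀ {a b : GL ι F}, Commute a b → Commute (g⁻¹ * a * g) (g⁻¹ * b * g) := fun {a b} h => by
      show g⁻¹ * a * g * (g⁻¹ * b * g) = _
      rw [show g⁻¹ * a * g * (g⁻¹ * b * g) = g⁻¹ * (a * b) * g by group, h.eq]; group
    obtain ⟨r', hr', r'z, e⟩ := L.proj _ hz.down _ (mul_mem (mul_mem (inv_mem hg) hk) hg) (cc kz) _
      (mem_cj.1 hr) (cc rz)
    refine ⟨g * r' * g⁻¹, mem_cj.2 (by rwa [show g⁻¹ * (g * r' * g⁻¹) * g = r' by group]), ?_, ?_⟩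
    · have := r'z.map (MulAut.conj g).toMonoidHom
      simpa [mul_assoc] using this
    · have h := congrArg (fun N => (g : Matrix ι ι F) * N * ((g⁻¹ : GL ι F) : Matrix ι ι F)) e
      simp only [mul_add, add_mul, mul_one, ← Units.val_mul] at h ⊢
      convert h using 3 <;> group

namespace Loc

variable {R H : Subgroup (GL ι F)} {u : Fˣ} (L : Loc R H u) (X : Sym R u)
include L X

theorem sub_of_common {R' : Subgroup (GL ι F)} (L' : Loc R' H u) (X' : Sym R' u) {z : GL ι F} (hz' : IQ R' z)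
    {r : GL ι F} (hr : r ∈ R) (rz : Commute r z) : r ∈ R' := by
  by_cases hs : Scal r
  · rcases X.scal_cases hr hs with h | h
    · exact X'.mem_pm h (one_mem _)
    · exact X'.mem_pm h X'.unit
  obtain ⟨c, hc, hi⟩ := X.scale hr hs
  have : sc c * r ∈ R' := X'.pull hi.2.1 (X.trace_eq_zero hi.1 hi.2.2)
    (L'.cent X' (L.tau_mem _ hi) hz' (X.tau_commute hi.2.1 ((commute_sc c z).mul_left rz).symm).symm)
  have hc' : sc c ∈ R' := by
    rcases X.scal_cases hc (scal_sc c) with h | h
    · exact X'.mem_pm h (one_mem _)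
    · exact X'.mem_pm h X'.unit
  exact (Subgroup.mul_mem_cancel_left _ hc').1 this

theorem le_of_common {R' : Subgroup (GL ι F)} (L' : Loc R' H u) (X' : Sym R' u) {z : GL ι F} (hz : IQ R z)
    (hz' : IQ R' z) : R ≤ R' := by
  obtain ⟨w, hw, wz, -, -, r₀, hr₀, r₀z, -, ra⟩ := X.exists_out hz.1 hz.1 hz.1 hz.1 hz.1
  have hw' : IQ R' w := ⟨L.sub_of_common X L' X' hz' hw.1 wz, hw.2.1, hw.2.2⟩
  intro r hr
  rcases X.comm r hr w hw.1 with h | h
  · exact L.sub_of_common X L' X' hw' hr h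
  · have h1 := L.sub_of_common X L' X' hw' (mul_mem hr hr₀) (h.symm.mul_anti ra.symm).symm
    exact (Subgroup.mul_mem_cancel_right _ (L.sub_of_common X L' X' hz' hr₀ r₀z)).1 h1

/-- Fusion of a non-central involution stays in the normaliser. -/
theorem ufix {h z : GL ι F} (hh : h ∈ H) (hz : IQ R z)
    (hn : h * z * h⁻¹ ∈ normalizer (R : Set (GL ι F))) : h ∈ normalizer (R : Set (GL ι F)) := by
  set z' := h * z * h⁻¹ with hz'
  have hzz : z' * z' = 1 := by
    rw [hz', show h * z * h⁻¹ * (h * z * h⁻¹) = h * (z * z) * h⁻¹ by group, hz.2.1, mul_one, mul_inv_cancel]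
  obtain ⟨e, he, ez⟩ := X.exists_iq_cent hn hzz
  have hconj : h⁻¹ * z' * h = z := by rw [hz']; group
  have hz'' : IQ (cj h R) z' := ⟨mem_cj.2 (hconj.symm ▸ hz.1), hzz, fun hs => hz.2.2 (by
    rw [← hconj, scal_conj hs]; exact hs)⟩
  have L' := L.conj X hh
  have X' := X.conj h
  have he' : IQ (cj h R) e := ⟨X'.pull he.2.1 (X.trace_eq_zero he.1 he.2.2)
    (L'.cent X' (L.tau_mem _ he) hz'' (X.tau_commute he.2.1 ez.symm).symm), he.2.1, he.2.2⟩
  refine X.mem_norm fun r hr => ?_
  exact L'.le_of_common X' L X he' he (mem_cj.2 (by rwa [show h⁻¹ * (h * r * h⁻¹) * h = r by group]))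

theorem pm_fix {h z : GL ι F} (hh : h ∈ H) (hz : IQ R z) (hp : PM (h * z * h⁻¹) z) :
    h ∈ normalizer (R : Set (GL ι F)) :=
  L.ufix X hh hz (le_normalizer (X.mem_pm hp hz.1))

end Loc

end CfsgLib.MaxSub.QuadTwo
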