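import Cfsg.Agent.Lib.MaxSub.Extra.Quad.Transvect
import Cfsg.Agent.Lib.MaxSub.SLPauliFrame
import Cfsg.Agent.Lib.PauliFour.Main

/-!
In block coordinates adapted to an involution `z` of `R`, an overgroup of the normaliser in `SL₈` either contains
`SL₈` or acts on each eigenspace of `z` through `R`.
-/

set_option autoImplicit false

namespace CfsgLib.MaxSub.QuadTwo

open Matrix Subgroup CfsgLib.PauliFour CfsgLib.MaxSub.Extra Cfsg.Geo

variable {F : Type*} [Field F]


/-- A block diagonal unit. -/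
def emb : (GL (Fin 4) F) × (GL (Fin 4) F) →* (GL (Fin 4 ⊕ Fin 4) F) where
  toFun p :=
    ⟨fromBlocks p.1.1 0 0 p.2.1, fromBlocks (p.1⁻¹).1 0 0 (p.2⁻¹).1, by
      simp [fromBlocks_multiply, fromBlocks_one], by simp [fromBlocks_multiply, fromBlocks_one]⟩
  map_one' := Units.ext (by simp [fromBlocks_one])
  map_mul' p q := Units.ext (by simp [fromBlocks_multiply])

theorem coe_emb (a b : (GL (Fin 4) F)) : (emb (a, b) : (Matrix (Fin 4 ⊕ Fin 4) (Fin 4 ⊕ Fin 4) F)) = fromBlocks (a : Matrix (Fin 4) (Fin 4) F) 0 0 (b : Matrix _ _ F) :=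
  rfl

theorem emb_inj {a b c d : (GL (Fin 4) F)} (h : emb (a, b) = emb (c, d)) : a = c ∧ b = d := by
  have e := congrArg Units.val h
  rw [coe_emb, coe_emb, fromBlocks_inj] at e
  exact ⟨Units.ext e.1, Units.ext e.2.2.2⟩

theorem emb_neg (a b : (GL (Fin 4) F)) : emb (-a, -b) = -emb (a, b) :=
  Units.ext (by simp [coe_emb, fromBlocks_neg])

theorem emb_neg_one : emb ((-1 : (GL (Fin 4) F)), (-1 : (GL (Fin 4) F))) = -1 := by
  rw [emb_neg, show ((1 : (GL (Fin 4) F)), (1 : (GL (Fin 4) F))) = 1 from rfl, map_one]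

theorem emb_sc (c : Fˣ) : emb (sc c, sc c) = (sc c : (GL (Fin 4 ⊕ Fin 4) F)) := by
  refine Units.ext ?_
  simp only [coe_emb, coe_sc]
  conv_rhs => rw [← fromBlocks_one, fromBlocks_smul, smul_zero]

theorem det_emb (a b : (GL (Fin 4) F)) : (emb (a, b) : (Matrix (Fin 4 ⊕ Fin 4) (Fin 4 ⊕ Fin 4) F)).det = (a : Matrix (Fin 4) (Fin 4) F).det * (b : Matrix (Fin 4) (Fin 4) F).det :=
  det_fromBlocks_zero₁₂ _ _ _

theorem mem_sl {ι : Type} [Fintype ι] [DecidableEq ι] {g : GL ι F} :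
    g ∈ specialLinear ι F ↔ (g : Matrix ι ι F).det = 1 := by
  rw [specialLinear, MonoidHom.mem_ker, Units.ext_iff]
  rfl

theorem emb_sl {a b : (GL (Fin 4) F)} (ha : a ∈ specialLinear (Fin 4) F) (hb : b ∈ specialLinear (Fin 4) F) :
    emb (a, b) ∈ specialLinear (Fin 4 ⊕ Fin 4) F := by
  rw [mem_sl, det_emb, mem_sl.1 ha, mem_sl.1 hb, one_mul]

/-- The sign of the two blocks. -/
def Zb : (GL (Fin 4 ⊕ Fin 4) F) := emb (1, -1)

/-- The exchange of the two blocks. -/
def Wb : (GL (Fin 4 ⊕ Fin 4) F) :=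
  ⟨fromBlocks 0 1 1 0, fromBlocks 0 1 1 0, by simp [fromBlocks_multiply, fromBlocks_one],
    by simp [fromBlocks_multiply, fromBlocks_one]⟩

theorem Wb_sq : (Wb : (GL (Fin 4 ⊕ Fin 4) F)) * Wb = 1 := Units.ext (by simp [Wb, fromBlocks_multiply, fromBlocks_one])

theorem Zb_sq : (Zb : (GL (Fin 4 ⊕ Fin 4) F)) * Zb = 1 := by
  rw [Zb, ← map_mul, Prod.mk_mul_mk, one_mul, neg_mul_neg, one_mul]; exact map_one _

theorem Wb_emb (a b : (GL (Fin 4) F)) : Wb * emb (a, b) = emb (b, a) * Wb :=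
  Units.ext (by simp [Wb, coe_emb, fromBlocks_multiply])

theorem Wb_Zb : Anti (Wb : (GL (Fin 4 ⊕ Fin 4) F)) Zb := by
  show Wb * Zb = -(Zb * Wb)
  rw [Zb, Wb_emb, ← neg_mul, ← emb_neg, neg_neg]

theorem commute_Zb (h2 : (2 : F) ≠ 0) {k : (GL (Fin 4 ⊕ Fin 4) F)} (h : Commute k Zb) : ∃ a b : (GL (Fin 4) F), k = emb (a, b) := by
  have shape : ∀ g : (GL (Fin 4 ⊕ Fin 4) F), Commute g Zb →
      ∃ A D : Matrix (Fin 4) (Fin 4) F, (g : (Matrix (Fin 4 ⊕ Fin 4) (Fin 4 ⊕ Fin 4) F)) = fromBlocks A 0 0 D := fun g hg => by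
    have e := congrArg Units.val hg.eq
    rw [Units.val_mul, Units.val_mul, ← fromBlocks_toBlocks (g : (Matrix (Fin 4 ⊕ Fin 4) (Fin 4 ⊕ Fin 4) F)), Zb, coe_emb, fromBlocks_multiply,
      fromBlocks_multiply, fromBlocks_inj] at e
    simp only [Units.val_one, Units.val_neg, mul_one, one_mul, mul_zero, zero_mul, add_zero, zero_add,
      Matrix.neg_mul, Matrix.mul_neg] at e
    have zero : ∀ {M : Matrix (Fin 4) (Fin 4) F}, M = -M → M = 0 := fun {M} hM => by
      have : (2 : F) • M = 0 := by rw [two_smul]; exact add_eq_zero_iff_eq_neg.2 hM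
      exact (smul_eq_zero.1 this).resolve_left h2
    refine ⟨(g : (Matrix (Fin 4 ⊕ Fin 4) (Fin 4 ⊕ Fin 4) F)).toBlocks₁₁, (g : (Matrix (Fin 4 ⊕ Fin 4) (Fin 4 ⊕ Fin 4) F)).toBlocks₂₂, ?_⟩
    conv_lhs => rw [← fromBlocks_toBlocks (g : (Matrix (Fin 4 ⊕ Fin 4) (Fin 4 ⊕ Fin 4) F)), zero e.2.1.symm, zero e.2.2.1]
  obtain ⟨A, D, hA⟩ := shape k h
  obtain ⟨A', D', hA'⟩ := shape k⁻¹ h.inv_left
  have e : (k : (Matrix (Fin 4 ⊕ Fin 4) (Fin 4 ⊕ Fin 4) F)) * (k⁻¹ : (GL (Fin 4 ⊕ Fin 4) F)).1 = 1 := by rw [← Units.val_mul, mul_inv_cancel, Units.val_one]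
  have e' : (k⁻¹ : (GL (Fin 4 ⊕ Fin 4) F)).1 * (k : (Matrix (Fin 4 ⊕ Fin 4) (Fin 4 ⊕ Fin 4) F)) = 1 := by rw [← Units.val_mul, inv_mul_cancel, Units.val_one]
  rw [hA, hA', fromBlocks_multiply, ← fromBlocks_one, fromBlocks_inj] at e e'
  simp only [mul_zero, zero_mul, add_zero, zero_add] at e e'
  exact ⟨⟨A, A', e.1, e'.1⟩, ⟨D, D', e.2.2.2, e'.2.2.2⟩, Units.ext hA⟩

/-- The first component. -/
def core (R : Subgroup (GL (Fin 4 ⊕ Fin 4) F)) : Subgroup (GL (Fin 4) F) := R.comap (emb.comp ((MonoidHom.id (GL (Fin 4) F)).prod (MonoidHom.id (GL (Fin 4) F))))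

theorem mem_core {R : Subgroup (GL (Fin 4 ⊕ Fin 4) F)} {g : (GL (Fin 4) F)} : g ∈ core R ↔ emb (g, g) ∈ R := Iff.rfl

namespace Sym

variable {R : Subgroup (GL (Fin 4 ⊕ Fin 4) F)} {u : Fˣ} (X : Sym R u) (hZ : Zb ∈ R) (hW : Wb ∈ R)
include X hZ hW

theorem iq_Zb : IQ R Zb := ⟨hZ, Zb_sq, X.not_scal_of_anti Wb_Zb⟩

theorem iq_Wb : IQ R Wb := ⟨hW, Wb_sq, X.not_scal_of_anti Wb_Zb.symm⟩

theorem emb_cases {a b : (GL (Fin 4) F)} (h : emb (a, b) ∈ R) : (b = a ∨ b = -a) ∧ a ∈ core R := by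
  have hb : b = a ∨ b = -a := by
    rcases X.comm _ hW _ h with e | e
    · exact Or.inl (emb_inj (mul_right_cancel ((Wb_emb a b).symm.trans e.eq))).1
    · refine Or.inr ?_
      have e1 : emb (b, a) * Wb = -(emb (a, b) * Wb) := (Wb_emb a b).symm.trans e
      rw [← neg_mul, ← emb_neg] at e1
      exact (emb_inj (mul_right_cancel e1)).1
  refine ⟨hb, mem_core.2 ?_⟩
  rcases hb with rfl | rfl
  · exact h
  · have := mul_mem h hZ
    rwa [Zb, ← map_mul, Prod.mk_mul_mk, mul_one, neg_mul_neg, mul_one] at this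

theorem decompose {r : (GL (Fin 4 ⊕ Fin 4) F)} (hr : r ∈ R) :
    ∃ g ∈ core R, ∃ s : Bool, ∃ t : Bool, r = emb (g, cond s (-g) g) * cond t Wb 1 := by
  have key : ∀ r ∈ R, Commute r Zb → ∃ g ∈ core R, ∃ s : Bool, r = emb (g, cond s (-g) g) := fun r hr hc => by
    obtain ⟨a, b, rfl⟩ := commute_Zb X.two hc
    obtain ⟨hb, ha⟩ := X.emb_cases hZ hW hr
    rcases hb with rfl | rfl
    · exact ⟨_, ha, false, rfl⟩
    · exact ⟨_, ha, true, rfl⟩
  rcases X.comm r hr Zb hZ with h | h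
  · obtain ⟨g, hg, s, e⟩ := key r hr h
    exact ⟨g, hg, s, false, by rw [e]; exact (mul_one _).symm⟩
  · obtain ⟨g, hg, s, e⟩ := key _ (mul_mem hr hW) (h.symm.mul_anti Wb_Zb.symm).symm
    refine ⟨g, hg, s, true, ?_⟩
    rw [← e]
    show r = r * Wb * Wb
    rw [mul_assoc, Wb_sq, mul_one]

theorem emb_mem {g : (GL (Fin 4) F)} (hg : g ∈ core R) (s : Bool) : emb (g, cond s (-g) g) ∈ R := by
  cases s
  · exact hg
  · show emb (g, -g) ∈ R
    have := mul_mem (mem_core.1 hg) hZ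
    rwa [Zb, ← map_mul, Prod.mk_mul_mk, mul_one, mul_neg, mul_one] at this

theorem core_anti {g : (GL (Fin 4) F)} (hg : g ∈ core R) {g' : (GL (Fin 4) F)} (hg' : g' ∈ core R) : Commute g g' ∨ Anti g g' := by
  rcases X.comm _ (mem_core.1 hg) _ (mem_core.1 hg') with e | e
  · left
    have := e.eq
    rw [← map_mul, ← map_mul, Prod.mk_mul_mk, Prod.mk_mul_mk] at this
    exact (emb_inj this).1
  · right
    have e1 : emb (g, g) * emb (g', g') = -(emb (g', g') * emb (g, g)) := e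
    rw [← map_mul, ← map_mul, Prod.mk_mul_mk, Prod.mk_mul_mk, ← emb_neg] at e1
    exact (emb_inj e1).1

theorem core_sc {c : Fˣ} : (sc c : (GL (Fin 4) F)) ∈ core R ↔ (sc c : (GL (Fin 4 ⊕ Fin 4) F)) ∈ R := by rw [mem_core, emb_sc]

theorem core_sq {g : (GL (Fin 4) F)} (hg : g ∈ core R) : g * g = 1 ∨ g * g = -1 := by
  rcases X.sq _ (mem_core.1 hg) with e | e <;> rw [← map_mul, Prod.mk_mul_mk] at e
  · exact Or.inl (emb_inj (e.trans (map_one emb).symm)).1
  · exact Or.inr (emb_inj (e.trans emb_neg_one.symm)).1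

theorem core_neg : (-1 : (GL (Fin 4) F)) ∈ core R := by
  refine mem_core.2 ?_
  rw [emb_neg_one]
  exact X.neg

theorem core_irr (M : Matrix (Fin 4) (Fin 4) F)
    (hM : ∀ s ∈ core R, M * (s : Matrix (Fin 4) (Fin 4) F) = (s : Matrix _ _ F) * M) : ∃ c : F, M = c • 1 := by
  obtain ⟨c, hc⟩ := X.irr (fromBlocks M 0 0 M) fun r hr => by
    obtain ⟨g, hg, s, t, rfl⟩ := X.decompose hZ hW hr
    have h1 := hM g hg
    cases s <;> cases t <;>
      simp [coe_emb, Wb, fromBlocks_multiply, Matrix.mul_neg, Matrix.neg_mul, h1]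
  refine ⟨c, ?_⟩
  rw [← fromBlocks_one, fromBlocks_smul, fromBlocks_inj] at hc
  exact hc.1

theorem core_card (h256 : Nat.card R = 256) : Nat.card (core R) = 64 := by
  haveI := X.fin
  let φ : (core R) × Bool × Bool → R := fun p =>
    ⟨emb ((p.1 : (GL (Fin 4) F)), cond p.2.1 (-(p.1 : (GL (Fin 4) F))) p.1) * cond p.2.2 Wb 1,
      mul_mem (X.emb_mem hZ hW p.1.2 _) (by cases p.2.2; exacts [one_mem R, hW])⟩
  have hinj : Function.Injective φ := by
    rintro ⟨g, s, t⟩ ⟨g', s', t'⟩ e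
    have e' := congrArg (fun v : R => (v : (GL (Fin 4 ⊕ Fin 4) F))) e
    simp only [φ] at e'
    obtain rfl : t = t' := by
      cases t <;> cases t' <;> first | rfl | exfalso
      all_goals
        have e1 := congrArg (fun v : (GL (Fin 4 ⊕ Fin 4) F) => (v : (Matrix (Fin 4 ⊕ Fin 4) (Fin 4 ⊕ Fin 4) F)).toBlocks₁₁) e'
        simp [coe_emb, Wb, fromBlocks_multiply] at e1
        try first | exact g.1.ne_zero e1 | exact g.1.ne_zero e1.symm | exact g'.1.ne_zero e1 | exact g'.1.ne_zero e1.symm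
    obtain ⟨h1, h2⟩ := emb_inj (mul_right_cancel e')
    obtain rfl : g = g' := Subtype.ext h1
    obtain rfl : s = s' := by
      cases s <;> cases s' <;> first | rfl | exfalso
      all_goals
        simp only [cond_true, cond_false] at h2
        first | exact ne_neg_self X.two _ h2 | exact ne_neg_self X.two _ h2.symm
    rfl
  have hsurj : Function.Surjective φ := fun r => by
    obtain ⟨g, hg, s, t, e⟩ := X.decompose hZ hW r.2
    exact ⟨(⟨g, hg⟩, s, t), Subtype.ext e.symm⟩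
  have := Nat.card_congr (Equiv.ofBijective φ ⟨hinj, hsurj⟩)
  rw [Nat.card_prod, Nat.card_prod, show Nat.card Bool = 2 by simp, h256] at this
  omega

theorem core_finite : Finite (core R) := by
  haveI := X.fin
  exact Finite.of_injective (fun g : core R => (⟨emb ((g : (GL (Fin 4) F)), (g : (GL (Fin 4) F))), g.2⟩ : R))
    fun g g' e => Subtype.ext (emb_inj (congrArg (fun v : R => (v : (GL (Fin 4 ⊕ Fin 4) F))) e)).1

theorem core_central {g : (GL (Fin 4) F)} (hg : ∀ b ∈ core R, Commute g b) : Scal g := by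
  obtain ⟨c, hc⟩ := X.core_irr hZ hW (g : Matrix (Fin 4) (Fin 4) F) fun s hs => congrArg Units.val (hg s hs).eq
  obtain ⟨v, -, hv⟩ := eq_sc_of_coe hc
  exact ⟨v, hv⟩

theorem core_center : Nat.card (Subgroup.center (core R)) = 4 := by
  classical
  haveI := X.nonempty
  have hu : (sc u : (GL (Fin 4) F)) ∈ core R := (X.core_sc hZ hW).2 X.unit
  have hmem : ∀ c : Fˣ, (c : F) = 1 ∨ (c : F) = -1 ∨ (c : F) = u ∨ (c : F) = -u → (sc c : (GL (Fin 4) F)) ∈ core R :=
    fun c hc => by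
      refine (X.core_sc hZ hW).2 ?_
      rcases hc with e | e | e | e
      · rw [show c = 1 from Units.ext e, map_one]; exact one_mem R
      · rw [show c = -1 from Units.ext (by simpa using e), sc_neg, map_one]; exact X.neg
      · rw [show c = u from Units.ext e]; exact X.unit
      · rw [show c = -u from Units.ext (by simpa using e), sc_neg]; exact X.mem_neg X.unit
  let S : Finset Fˣ := {1, -1, u, -u}
  have hS : S.card = 4 := by
    have h1 : (1 : Fˣ) ≠ -1 := fun e => X.two (by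
      have := congrArg Units.val e
      simp only [Units.val_one, Units.val_neg] at this
      linear_combination this)
    have h2 : ∀ c : Fˣ, (c : F) * c = 1 → c ≠ u ∧ c ≠ -u := fun c hc => by
      constructor <;> intro e <;> subst e <;> refine X.two ?_
      · linear_combination X.iu - hc
      · simp only [Units.val_neg] at hc
        linear_combination X.iu - hc
    have h3 : u ≠ -u := fun e => X.two (by
      have := congrArg Units.val e
      simp only [Units.val_neg] at this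
      have h4 : (2 : F) * u = 0 := by linear_combination this
      exact (mul_eq_zero.1 h4).resolve_right u.ne_zero)
    obtain ⟨a1, a2⟩ := h2 1 (by simp)
    obtain ⟨b1, b2⟩ := h2 (-1) (by simp)
    simp [S, h1, a1, a2, b1, b2, h3]
  have hin : ∀ c ∈ S, (sc c : (GL (Fin 4) F)) ∈ core R := fun c hc => hmem c (by
    simp only [S, Finset.mem_insert, Finset.mem_singleton] at hc
    rcases hc with rfl | rfl | rfl | rfl <;> simp)
  let f : S → Subgroup.center (core R) := fun c => ⟨⟨sc c.1, hin c.1 c.2⟩,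
    Subgroup.mem_center_iff.2 fun g => Subtype.ext (sc_comm c.1 (g : (GL (Fin 4) F))).symm⟩
  have hf : Function.Bijective f := by
    refine ⟨fun c d e => Subtype.ext (sc_injective (ι := Fin 4)
      (congrArg (fun v : Subgroup.center (core R) => ((v : core R) : (GL (Fin 4) F))) e)), fun z => ?_⟩
    obtain ⟨c, hc⟩ := X.core_central hZ hW (g := ((z : core R) : (GL (Fin 4) F))) fun b hb =>
      (congrArg Subtype.val (Subgroup.mem_center_iff.1 z.2 ⟨b, hb⟩)).symm
    have hcR : (sc c : (GL (Fin 4 ⊕ Fin 4) F)) ∈ R := (X.core_sc hZ hW).1 (hc ▸ (z : core R).2)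
    have hcS : c ∈ S := by
      simp only [S, Finset.mem_insert, Finset.mem_singleton]
      rcases X.scal_cases hcR (scal_sc c) with (e | e) | (e | e)
      · exact Or.inl (sc_injective (ι := Fin 4 ⊕ Fin 4) (e.trans (map_one _).symm))
      · exact Or.inr (Or.inl (sc_injective (ι := Fin 4 ⊕ Fin 4) (e.trans (by rw [sc_neg, map_one]))))
      · exact Or.inr (Or.inr (Or.inl (sc_injective (ι := Fin 4 ⊕ Fin 4) e)))
      · exact Or.inr (Or.inr (Or.inr (sc_injective (ι := Fin 4 ⊕ Fin 4) (e.trans (sc_neg u).symm))))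
    exact ⟨⟨c, hcS⟩, Subtype.ext (Subtype.ext hc.symm)⟩
  rw [← Nat.card_congr (Equiv.ofBijective f hf), Nat.card_eq_finsetCard, hS]

theorem core_sys (h256 : Nat.card R = 256) : PauliFour.Sys (core R) where
  two := X.two
  dim := Fintype.card_fin 4
  irr := X.core_irr hZ hW
  fin := X.core_finite hZ hW
  card := by rw [X.core_card hZ hW h256, X.core_center hZ hW]
  comm a ha b hb := X.core_anti hZ hW ha hb
  sq a ha b hb := by rcases X.core_sq hZ hW ha with e | e <;> rw [e] <;> simp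
  pow_four a ha := by
    rw [pow_succ, pow_succ, pow_succ, pow_one, mul_assoc (a * a) a a]
    rcases X.core_sq hZ hW ha with e | e <;> rw [e] <;> simp
  neg := X.core_neg hZ hW

theorem scal_emb {g : (GL (Fin 4) F)} (h : Scal g) : Scal (emb (g, g)) := by
  obtain ⟨c, rfl⟩ := h; exact ⟨c, emb_sc c⟩

theorem scale_core {g : (GL (Fin 4) F)} (hg : g ∈ core R) (hn : ¬ Scal g) :
    ∃ c : Fˣ, (sc c : (GL (Fin 4) F)) ∈ core R ∧ (sc c * g) * (sc c * g) = 1 ∧ IQ R (emb (sc c * g, sc c * g)) := by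
  have hns : ¬ Scal (emb (g, g)) := fun hs => hn (by
    obtain ⟨c, hc⟩ := hs
    rw [← emb_sc] at hc
    exact ⟨c, (emb_inj hc).1⟩)
  obtain ⟨c, hc, hi⟩ := X.scale (mem_core.1 hg) hns
  have e : emb (sc c * g, sc c * g) = sc c * emb (g, g) := by rw [← emb_sc, ← map_mul, Prod.mk_mul_mk]
  refine ⟨c, (X.core_sc hZ hW).2 hc, ?_, e ▸ hi⟩
  have := hi.2.1
  rw [← e, ← map_mul, Prod.mk_mul_mk] at this
  exact (emb_inj (this.trans (map_one emb).symm)).1

theorem det_core {g : (GL (Fin 4) F)} (hg : g ∈ core R) : g ∈ specialLinear (Fin 4) F := by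
  have hsc : ∀ c : Fˣ, (sc c : (GL (Fin 4) F)) ∈ core R → (sc c : (GL (Fin 4) F)) ∈ specialLinear (Fin 4) F := fun c hc => by
    have h4 : (c : F) ^ 4 = 1 := by
      rcases X.core_sq hZ hW hc with e | e <;> rw [← map_mul] at e
      · have := congrArg Units.val (sc_injective (ι := Fin 4) (e.trans (map_one _).symm))
        simp only [Units.val_mul, Units.val_one] at this
        linear_combination ((c : F) * c + 1) * this
      · have := congrArg Units.val (sc_injective (ι := Fin 4) (e.trans (by rw [sc_neg, map_one] :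
          (-1 : (GL (Fin 4) F)) = sc (-1))))
        simp only [Units.val_mul, Units.val_neg, Units.val_one] at this
        linear_combination ((c : F) * c - 1) * this
    rw [mem_sl, coe_sc, Matrix.det_smul, Matrix.det_one, mul_one, Fintype.card_fin, h4]
  by_cases hn : Scal g
  · obtain ⟨c, rfl⟩ := hn; exact hsc c hg
  obtain ⟨c, hc, hgg, -⟩ := X.scale_core hZ hW hg hn
  obtain ⟨r, hr, hra⟩ : ∃ r ∈ core R, Anti r (sc c * g) := by
    by_contra! hh
    have := X.core_central hZ hW fun b hb =>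
      ((X.core_anti hZ hW hb (mul_mem hc hg)).resolve_right (hh b hb)).symm
    exact hn (by simpa using (scal_sc c).inv.mul this)
  have hrn : ¬ Scal r := fun hs => by
    have e := (hs.commute (sc c * g)).eq
    have h' : r * (sc c * g) = -(sc c * g * r) := hra
    rw [e] at h'
    exact ne_neg_self X.two _ h'
  obtain ⟨d, hd, hrr, -⟩ := X.scale_core hZ hW hr hrn
  obtain ⟨Ψ, hdet, hΨ, -⟩ := exists_split (k := 2) (Fintype.card_fin 4) X.two hgg hrr (hra.symm.sc_mul d).symm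
  have h1 : sc c * g ∈ specialLinear (Fin 4) F := by
    rw [mem_sl, ← hdet, hΨ, det_fromBlocks_zero₁₂, det_one, one_mul, det_neg, det_one, Fintype.card_fin]
    norm_num
  exact (Subgroup.mul_mem_cancel_left _ (hsc c hc)).1 h1

theorem core_norm {a : (GL (Fin 4) F)} (ha : a ∈ normalizer (core R : Set (GL (Fin 4) F))) :
    emb (a, a) ∈ normalizer (R : Set (GL (Fin 4 ⊕ Fin 4) F)) := by
  refine X.mem_norm fun r hr => ?_
  obtain ⟨g, hg, s, t, rfl⟩ := X.decompose hZ hW hr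
  have hg' : a * g * a⁻¹ ∈ core R := (Subgroup.mem_normalizer_iff.1 ha g).1 hg
  have e1 : emb (a, a) * emb (g, cond s (-g) g) * (emb (a, a))⁻¹ =
      emb (a * g * a⁻¹, cond s (-(a * g * a⁻¹)) (a * g * a⁻¹)) := by
    rw [← map_inv, ← map_mul, ← map_mul]
    cases s <;> simp [mul_neg, neg_mul]
  have e2 : emb (a, a) * cond t Wb 1 * (emb (a, a))⁻¹ = cond t Wb 1 := by
    cases t
    · simp
    · show emb (a, a) * Wb * (emb (a, a))⁻¹ = Wb
      rw [← Wb_emb, mul_inv_cancel_right]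
  rw [show emb (a, a) * (emb (g, cond s (-g) g) * cond t Wb 1) * (emb (a, a))⁻¹ =
    emb (a, a) * emb (g, cond s (-g) g) * (emb (a, a))⁻¹ * (emb (a, a) * cond t Wb 1 * (emb (a, a))⁻¹) by group,
    e1, e2]
  exact mul_mem (X.emb_mem hZ hW hg' _) (by cases t; exacts [one_mem R, hW])

theorem norm_core {a : (GL (Fin 4) F)} (ha : emb (a, a) ∈ normalizer (R : Set (GL (Fin 4 ⊕ Fin 4) F))) : a ∈ normalizer (core R : Set (GL (Fin 4) F)) := by
  rw [Subgroup.mem_normalizer_iff]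
  intro g
  rw [mem_core, mem_core, (Subgroup.mem_normalizer_iff.1 ha _), ← map_inv, ← map_mul, ← map_mul]
  rfl

theorem emb_one_norm {g : (GL (Fin 4) F)} (hg : g ∈ core R) : emb (g, 1) ∈ normalizer (R : Set (GL (Fin 4 ⊕ Fin 4) F)) := by
  refine X.mem_norm fun r hr => ?_
  obtain ⟨x, hx, s, t, rfl⟩ := X.decompose hZ hW hr
  have e1 : emb (g, 1) * emb (x, cond s (-x) x) * (emb (g, 1))⁻¹ ∈ R := by
    rw [← map_inv, ← map_mul, ← map_mul]
    show emb (g * x * g⁻¹, 1 * cond s (-x) x * 1⁻¹) ∈ R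
    rw [inv_one, one_mul, mul_one]
    rcases X.core_anti hZ hW hg hx with h | h
    · rw [h.eq, mul_inv_cancel_right]; exact X.emb_mem hZ hW hx s
    · rw [h.conj_eq]
      cases s
      · show emb (-x, x) ∈ R
        have := X.emb_mem hZ hW (g := -x) (by
          rw [← neg_one_mul]; exact mul_mem (X.core_neg hZ hW) hx) true
        simpa using this
      · show emb (-x, -x) ∈ R
        rw [emb_neg]; exact X.mem_neg hx
  have e2 : emb (g, 1) * cond t Wb 1 * (emb (g, 1))⁻¹ ∈ R := by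
    cases t
    · simp [one_mem]
    · show emb (g, 1) * Wb * (emb (g, 1))⁻¹ ∈ R
      rw [← map_inv, mul_assoc, Wb_emb, ← mul_assoc, ← map_mul]
      refine mul_mem ?_ hW
      show emb (g * 1⁻¹, 1 * g⁻¹) ∈ R
      rw [inv_one, mul_one, one_mul]
      rcases X.core_sq hZ hW hg with e | e
      · rw [inv_eq_of_mul_eq_one_right e]; exact hg
      · rw [inv_eq_of_mul_eq_one_right (show g * -g = 1 by rw [mul_neg, e, neg_neg])]
        exact X.emb_mem hZ hW hg true
  rw [show emb (g, 1) * (emb (x, cond s (-x) x) * cond t Wb 1) * (emb (g, 1))⁻¹ =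
    emb (g, 1) * emb (x, cond s (-x) x) * (emb (g, 1))⁻¹ * (emb (g, 1) * cond t Wb 1 * (emb (g, 1))⁻¹) by group]
  exact mul_mem e1 e2

end Sym

end CfsgLib.MaxSub.QuadTwo
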