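import Cfsg.Agent.Lib.MaxSub.Extra.Quad.Cross

/-!
The dichotomy in block coordinates.
-/

set_option autoImplicit false

namespace CfsgLib.MaxSub.QuadTwo

open scoped commutatorElement
open Matrix Subgroup CfsgLib.PauliFour CfsgLib.MaxSub.Extra Cfsg.Geo

variable {F : Type*} [Field F]

/-- A non-central normal subgroup of `SL_n`, `n ≥ 3`, is everything. -/
theorem sl_normal_top {n : ℕ} (hn : 3 ≤ n) {N : Subgroup (Matrix.SpecialLinearGroup (Fin n) F)} [hN : N.Normal]
    (hc : ¬ N ≤ Subgroup.center _) : N = ⊤ := by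
  let π := QuotientGroup.mk' (Subgroup.center (Matrix.SpecialLinearGroup (Fin n) F))
  haveI : IsSimpleGroup (Matrix.SpecialLinearGroup (Fin n) F ⧸ Subgroup.center _) :=
    CfsgLib.SLPerfect.isSimpleGroup (F := F) hn
  have hπ : Function.Surjective π := QuotientGroup.mk'_surjective _
  rcases (hN.map π hπ).eq_bot_or_eq_top with h | h
  · exact absurd (fun x hx => (QuotientGroup.eq_one_iff x).1 (Subgroup.mem_bot.1 (h ▸ Subgroup.mem_map_of_mem π hx))) hc
  rw [eq_top_iff, ← CfsgLib.SLPerfect.commutator_eq_top (F := F) hn, _root_.commutator_def, Subgroup.commutator_le]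
  intro g _ g' _
  obtain ⟨m, hm, em⟩ : π g ∈ N.map π := h ▸ Subgroup.mem_top _
  have hz : m⁻¹ * g ∈ Subgroup.center _ := QuotientGroup.eq.1 em
  have e : ∀ y, (m⁻¹ * g) * y = y * (m⁻¹ * g) := fun y => (Subgroup.mem_center_iff.1 hz y).symm
  have e1 : ⁅g, g'⁆ = m * (g' * m⁻¹ * g'⁻¹) := by
    rw [commutatorElement_def]
    calc g * g' * g⁻¹ * g'⁻¹ = m * ((m⁻¹ * g) * g') * g⁻¹ * g'⁻¹ := by group
      _ = m * (g' * (m⁻¹ * g)) * g⁻¹ * g'⁻¹ := by rw [e]
      _ = _ := by group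
  rw [e1]
  exact mul_mem hm (hN.conj_mem _ (inv_mem hm) g')

namespace Sym

variable {R : Subgroup (GL (Fin 4 ⊕ Fin 4) F)} {u : Fˣ} (X : Sym R u) (hZ : Zb ∈ R) (hW : Wb ∈ R)
include X hZ hW

theorem det_tau_Zb : (tau u Zb : GL (Fin 4 ⊕ Fin 4) F) ∈ specialLinear _ F := by
  have hu4 : (u : F) ^ 4 = 1 := by linear_combination ((u : F) * u - 1) * X.iu
  rw [mem_sl, X.tau_coe Zb_sq, tauM, Zb, coe_emb, ← fromBlocks_one, fromBlocks_smul, fromBlocks_smul, fromBlocks_add,
    smul_zero, smul_zero, add_zero, det_fromBlocks_zero₁₂, Units.val_one, Units.val_neg, Units.val_one, smul_neg,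
    ← sub_eq_add_neg, ← sub_smul, ← add_smul, det_smul, det_smul, det_one, mul_one, mul_one, Fintype.card_fin]
  have h2 := X.two
  rw [show (1 + (u : F)) / 2 + (1 - (u : F)) / 2 = 1 by field_simp; ring,
    show (1 + (u : F)) / 2 - (1 - (u : F)) / 2 = u by field_simp; ring, one_pow, one_mul, hu4]

variable [Fintype F]

theorem exists_not_norm (hp : (Fintype.card F).Prime) (h256 : Nat.card R = 256) :
    ∃ g ∈ specialLinear (Fin 4 ⊕ Fin 4) F, g ∉ normalizer (R : Set (GL (Fin 4 ⊕ Fin 4) F)) := by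
  obtain ⟨a, ha, han⟩ := SetLike.exists_of_lt
    (CfsgLib.MaxSub.SLPauli.sl_pauli_maximal_sys hp (X.core_sys hZ hW h256) (X.core_center hZ hW)).1
  exact ⟨emb (a, a), emb_sl ha ha, fun h => han ⟨X.norm_core hZ hW h, ha⟩⟩

/-- Either everything, or the action on the positive eigenspace of `Zb` is through `R`. -/
theorem local_step (hp : (Fintype.card F).Prime) (h256 : Nat.card R = 256)
    {H : Subgroup (GL (Fin 4 ⊕ Fin 4) F)} (hHS : H ≤ specialLinear _ F)
    (hNH : subgroupNormalizer R ⊓ specialLinear _ F ≤ H) (hRS : R ≤ specialLinear _ F)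
    (htau : ∀ z, IQ R z → tau u z ∈ specialLinear _ F) :
    specialLinear _ F ≤ H ∨ ∀ k ∈ H, Commute k Zb → ∀ r ∈ R, Commute r Zb → ∃ r' ∈ R, Commute r' Zb ∧
      ((k * r * k⁻¹ : GL (Fin 4 ⊕ Fin 4) F) : Matrix (Fin 4 ⊕ Fin 4) (Fin 4 ⊕ Fin 4) F) *
          (1 + ((Zb : GL (Fin 4 ⊕ Fin 4) F) : Matrix (Fin 4 ⊕ Fin 4) (Fin 4 ⊕ Fin 4) F)) =
        (r' : Matrix (Fin 4 ⊕ Fin 4) (Fin 4 ⊕ Fin 4) F) *
          (1 + ((Zb : GL (Fin 4 ⊕ Fin 4) F) : Matrix (Fin 4 ⊕ Fin 4) (Fin 4 ⊕ Fin 4) F)) := by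
  have hRH : R ≤ H := fun r hr => hNH ⟨le_normalizer hr, hRS hr⟩
  have hT : ∀ z, IQ R z → tau u z ∈ H := fun z hz => hNH ⟨X.tau_norm hz, htau z hz⟩
  -- pairs of determinant one in the overgroup
  let M : Subgroup (GL (Fin 4) F) :=
    ((H.comap emb) ⊓ (specialLinear (Fin 4) F).prod (specialLinear (Fin 4) F)).map (MonoidHom.fst _ _)
  have hM : ∀ a, a ∈ M ↔ ∃ b, emb (a, b) ∈ H ∧ a ∈ specialLinear (Fin 4) F ∧ b ∈ specialLinear (Fin 4) F := by
    refine fun a => ⟨?_, fun ⟨b, h1, h2, h3⟩ => ⟨(a, b), ⟨h1, h2, h3⟩, rfl⟩⟩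
    rintro ⟨⟨a', b⟩, ⟨h1, h2, h3⟩, rfl⟩
    exact ⟨b, h1, h2, h3⟩
  have hS4 := X.core_sys hZ hW h256
  rcases (CfsgLib.MaxSub.SLPauli.sl_pauli_maximal_sys hp hS4 (X.core_center hZ hW)).2 M
      (fun a ha => (hM a).2 ⟨a, hNH ⟨X.core_norm hZ hW ha.1, emb_sl ha.2 ha.2⟩, ha.2, ha.2⟩)
      (fun a ha => by obtain ⟨b, -, h, -⟩ := (hM a).1 ha; exact h) with hMe | hMe
  · -- the normaliser on each block
    refine Or.inr fun k hk kz r hr rz => ?_
    obtain ⟨a, b, rfl⟩ := commute_Zb X.two kz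
    obtain ⟨g, g₂, rfl⟩ := commute_Zb X.two rz
    obtain ⟨-, hg⟩ := X.emb_cases hZ hW hr
    have conj_core : ∀ g ∈ core R, a * g * a⁻¹ ∈ core R := fun g hg => by
      by_cases hn : Scal g
      · rw [show a * g * a⁻¹ = g by rw [← (hn.commute a).eq, mul_inv_cancel_right]]; exact hg
      obtain ⟨c, hc, hgg, hiq⟩ := X.scale_core hZ hW hg hn
      set g₁ := sc c * g
      set E := emb (g₁, g₁) with hE
      have hEZ : Commute E Zb := by
        show E * Zb = Zb * E
        rw [hE, Zb, ← map_mul, ← map_mul, Prod.mk_mul_mk, Prod.mk_mul_mk, mul_one, one_mul, mul_neg, mul_one,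
          neg_mul, one_mul]
      obtain ⟨t, t', ht⟩ := commute_Zb X.two (X.tau_commute hiq.2.1 hEZ.symm).symm
      have htt : t' = t := by
        have e := X.tau_coe hiq.2.1
        rw [ht, tauM, hE, coe_emb, coe_emb, ← fromBlocks_one, fromBlocks_smul, fromBlocks_smul, fromBlocks_add,
          fromBlocks_inj] at e
        exact Units.ext (e.2.2.2.trans e.1.symm)
      subst htt
      have hcomm : emb (a, b) * emb (t', t') * (emb (a, b))⁻¹ * (emb (t', t'))⁻¹ ∈ H :=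
        mul_mem (mul_mem (mul_mem hk (ht ▸ hT E hiq)) (inv_mem hk)) (inv_mem (ht ▸ hT E hiq))
      rw [← map_inv, ← map_inv, ← map_mul, ← map_mul, ← map_mul] at hcomm
      have hd : ∀ x y : GL (Fin 4) F, x * y * x⁻¹ * y⁻¹ ∈ specialLinear (Fin 4) F := fun x y => by
        rw [specialLinear, MonoidHom.mem_ker, map_mul, map_mul, map_mul, map_inv, map_inv,
          mul_comm (GeneralLinearGroup.det x) (GeneralLinearGroup.det y), mul_inv_cancel_right, mul_inv_cancel]
      have hmem : a * t' * a⁻¹ * t'⁻¹ ∈ M := (hM _).2 ⟨_, hcomm, hd a t', hd b t'⟩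
      rw [hMe] at hmem
      have hta : a * t' * a⁻¹ ∈ normalizer (core R : Set (GL (Fin 4) F)) :=
        (Subgroup.mul_mem_cancel_right _ (inv_mem (X.norm_core hZ hW (ht ▸ X.tau_norm hiq)))).1 hmem.1
      have e2 : emb (a * t' * a⁻¹, a * t' * a⁻¹) = tau u (emb (a * g₁ * a⁻¹, a * g₁ * a⁻¹)) := by
        have h1 := X.tau_conj hiq.2.1 (emb (a, a))
        rw [ht, hE, ← map_inv, ← map_mul, ← map_mul, ← map_mul, ← map_mul] at h1
        exact h1
      have hee : emb (a * g₁ * a⁻¹, a * g₁ * a⁻¹) * emb (a * g₁ * a⁻¹, a * g₁ * a⁻¹) = 1 := by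
        rw [← map_mul, Prod.mk_mul_mk, show a * g₁ * a⁻¹ * (a * g₁ * a⁻¹) = a * (g₁ * g₁) * a⁻¹ by group, hgg,
          mul_one, mul_inv_cancel]
        exact map_one emb
      have htr : Matrix.trace (emb (a * g₁ * a⁻¹, a * g₁ * a⁻¹) :
          Matrix (Fin 4 ⊕ Fin 4) (Fin 4 ⊕ Fin 4) F) = 0 := by
        rw [show emb (a * g₁ * a⁻¹, a * g₁ * a⁻¹) = emb (a, a) * E * (emb (a, a))⁻¹ by
          rw [hE, ← map_inv, ← map_mul, ← map_mul]; rfl, Units.val_mul, Units.val_mul, Matrix.trace_units_conj]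
        exact X.trace_eq_zero hiq.1 hiq.2.2
      have h3 : a * g₁ * a⁻¹ ∈ core R := X.pull hee htr (e2 ▸ X.core_norm hZ hW hta)
      rw [show a * g₁ * a⁻¹ = sc c * (a * g * a⁻¹) by
        show a * (sc c * g) * a⁻¹ = _
        rw [← mul_assoc a, ← (commute_sc c a).eq]; group] at h3
      exact (Subgroup.mul_mem_cancel_left _ hc).1 h3
    refine ⟨emb (a * g * a⁻¹, a * g * a⁻¹), conj_core g hg, ?_, ?_⟩
    · show emb _ * Zb = Zb * emb _
      rw [Zb, ← map_mul, ← map_mul, Prod.mk_mul_mk, Prod.mk_mul_mk, mul_one, one_mul, mul_neg, mul_one, neg_mul,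
        one_mul]
    · have hplus : (1 + ((Zb : GL (Fin 4 ⊕ Fin 4) F) : Matrix (Fin 4 ⊕ Fin 4) (Fin 4 ⊕ Fin 4) F)) =
          fromBlocks (1 + 1) 0 0 0 := by
        rw [Zb, coe_emb, ← fromBlocks_one, fromBlocks_add]
        simp
      rw [← map_inv, ← map_mul, ← map_mul, hplus, Prod.inv_mk, Prod.mk_mul_mk, Prod.mk_mul_mk, coe_emb, coe_emb,
        fromBlocks_multiply, fromBlocks_multiply]
      simp
  · -- both blocks, hence everything
    refine Or.inl ?_
    let N : Subgroup (Matrix.SpecialLinearGroup (Fin 4) F) :=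
      H.comap (emb.comp ((MonoidHom.inl _ _).comp Matrix.SpecialLinearGroup.toGL))
    have hto : ∀ y : Matrix.SpecialLinearGroup (Fin 4) F,
        Matrix.SpecialLinearGroup.toGL y ∈ specialLinear (Fin 4) F := fun y => mem_sl.2 y.2
    haveI : N.Normal := ⟨fun x hx y => by
      obtain ⟨b, hb, -, -⟩ := (hM _).1 (hMe.symm ▸ hto y : Matrix.SpecialLinearGroup.toGL y ∈ M)
      show emb (Matrix.SpecialLinearGroup.toGL (y * x * y⁻¹), 1) ∈ H
      have := mul_mem (mul_mem hb hx) (inv_mem hb)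
      rw [← map_inv] at this
      simp only [MonoidHom.comp_apply, MonoidHom.inl_apply, ← map_mul, Prod.inv_mk, Prod.mk_mul_mk, mul_one,
        mul_inv_cancel] at this
      convert this using 3
      simp⟩
    have hNtop : N = ⊤ := by
      refine sl_normal_top (by norm_num) fun hle => ?_
      haveI := X.nonempty
      obtain ⟨g, hg, hgn⟩ : ∃ g ∈ core R, ¬ Scal g := by
        by_contra! hh
        have hc : Subgroup.center (core R) = ⊤ :=
          eq_top_iff.2 fun g _ => Subgroup.mem_center_iff.2 fun y => Subtype.ext ((hh g g.2).commute y).eq.symm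
        have := X.core_center hZ hW
        rw [hc, Subgroup.card_top, X.core_card hZ hW h256] at this
        norm_num at this
      let gs : Matrix.SpecialLinearGroup (Fin 4) F := ⟨g, mem_sl.1 (X.det_core hZ hW hg)⟩
      have hgs : Matrix.SpecialLinearGroup.toGL gs = g := Units.ext rfl
      have hgN : gs ∈ N := by
        show emb (Matrix.SpecialLinearGroup.toGL gs, 1) ∈ H
        rw [hgs]
        refine hNH ⟨X.emb_one_norm hZ hW hg, emb_sl (X.det_core hZ hW hg) (one_mem _)⟩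
      refine hgn (X.core_central hZ hW fun b hb => ?_)
      let bs : Matrix.SpecialLinearGroup (Fin 4) F := ⟨b, mem_sl.1 (X.det_core hZ hW hb)⟩
      have hbs : Matrix.SpecialLinearGroup.toGL bs = b := Units.ext rfl
      have := congrArg Matrix.SpecialLinearGroup.toGL (Subgroup.mem_center_iff.1 (hle hgN) bs)
      rw [map_mul, map_mul, hgs, hbs] at this
      exact this.symm
    have hl : ∀ (i j : Fin 4) (h : i ≠ j) (a : F), emb (tr h a, 1) ∈ H := fun i j h a =>
      (hNtop.symm ▸ Subgroup.mem_top (Matrix.SpecialLinearGroup.transvection h a) :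
        Matrix.SpecialLinearGroup.transvection h a ∈ N)
    have hWH : Wb ∈ H := hRH hW
    have hr : ∀ (i j : Fin 4) (h : i ≠ j) (a : F), emb (1, tr h a) ∈ H := fun i j h a => by
      have := mul_mem (mul_mem hWH (hl i j h a)) hWH
      rwa [Wb_emb, mul_assoc, Wb_sq, mul_one] at this
    have hiW := X.iq_Wb hZ hW
    exact sl_le_of_cross hl hr hWH (div_ne_zero u.ne_zero X.two)
      (cross_mem X.two X.iu hl (hT Wb hiW) (X.tau_coe hiW.2.1))

end Sym

end CfsgLib.MaxSub.QuadTwo
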