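import Cfsg.Agent.Lib.MaxSub.Extra.Quad.Split
import Cfsg.Agent.Lib.SLPerfect
import Cfsg.Prelude.Def_GeometricClasses

/-!
Subgroups of a general linear group containing all root elements; block root elements.
-/

set_option autoImplicit false

namespace CfsgLib.MaxSub.QuadTwo

open Matrix Subgroup

variable {F : Type*} [Field F] {ι : Type} [Fintype ι] [DecidableEq ι]

/-- The root element `1 + a E_ij`. -/
def tr {i j : ι} (h : i ≠ j) (a : F) : GL ι F :=
  Matrix.SpecialLinearGroup.toGL (Matrix.SpecialLinearGroup.transvection h a)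

@[simp] theorem coe_tr {i j : ι} (h : i ≠ j) (a : F) :
    (tr h a : Matrix ι ι F) = 1 + single i j a := rfl

theorem diag2n_eq' {i j : ι} (hij : i ≠ j) {t : F} (ht : t ≠ 0) :
    (SpecialLinearGroup.diag2n hij t ht : SpecialLinearGroup ι F) =
      SpecialLinearGroup.transvection hij t * SpecialLinearGroup.transvection hij.symm (-t⁻¹) *
        SpecialLinearGroup.transvection hij (t - 1) * SpecialLinearGroup.transvection hij.symm 1 *
        SpecialLinearGroup.transvection hij (-1) := by
  have hmul : ∀ {i j : ι} (h : i ≠ j) (c : F) (A : SpecialLinearGroup ι F) (k l : ι),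
      ((A * SpecialLinearGroup.transvection h c : SpecialLinearGroup ι F) : Matrix ι ι F) k l =
        A.1 k l + (if l = j then A.1 k i * c else 0) := fun {i j} h c A k l => by
    show (A.1 * (1 + single i j c)) k l = _
    rw [Matrix.mul_add, Matrix.mul_one, Matrix.add_apply]
    congr 1
    split_ifs with h
    · subst h; rw [Matrix.mul_single_apply_same]
    · rw [Matrix.mul_single_apply_of_ne (hbj := h)]
  apply Subtype.ext
  ext k l
  rw [SpecialLinearGroup.diag2n_coe]
  simp only [hmul, SpecialLinearGroup.transvection_coe, Matrix.transvection, Matrix.add_apply]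
  rcases eq_or_ne k i with rfl | hki <;> rcases eq_or_ne l j with rfl | hlj
  all_goals simp [Matrix.one_apply, Matrix.single_apply, Matrix.diagonal_apply, *, Ne.symm, eq_comm]
  all_goals split_ifs <;> simp_all
  all_goals field_simp <;> ring

/-- A subgroup with all root elements contains the special linear group. -/
theorem sl_le_of_tr [Nontrivial ι] {H : Subgroup (GL ι F)} (h : ∀ (i j : ι) (hij : i ≠ j) (a : F), tr hij a ∈ H) :
    Cfsg.Geo.specialLinear ι F ≤ H := by
  intro g hg
  have hd : (g : Matrix ι ι F).det = 1 := by simpa using congrArg Units.val (MonoidHom.mem_ker.1 hg)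
  suffices hM : ∀ M : SpecialLinearGroup ι F, Matrix.SpecialLinearGroup.toGL M ∈ H by
    convert hM ⟨(g : Matrix ι ι F), hd⟩ using 1
    exact Units.ext rfl
  intro M
  refine SpecialLinearGroup.diagonal_transvection_induction'
    (fun A => Matrix.SpecialLinearGroup.toGL A ∈ H) M (fun i j hij c hc => ?_) h
    (fun A B hA hB => by rw [map_mul]; exact mul_mem hA hB)
  rw [diag2n_eq' hij hc]
  simp only [map_mul]
  exact mul_mem (mul_mem (mul_mem (mul_mem (h _ _ _ _) (h _ _ _ _)) (h _ _ _ _)) (h _ _ _ _)) (h _ _ _ _)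

theorem tr_comm {i k j : ι} (hik : i ≠ k) (hkj : k ≠ j) (hij : i ≠ j) (a b : F) :
    tr hik a * tr hkj b * (tr hik a)⁻¹ * (tr hkj b)⁻¹ = tr hij (a * b) := by
  rw [mul_inv_eq_iff_eq_mul, mul_inv_eq_iff_eq_mul]
  refine Units.ext ?_
  simp only [Units.val_mul, coe_tr, mul_add, add_mul, mul_one, one_mul, single_mul_single_same,
    single_mul_single_of_ne _ _ _ _ hij.symm, single_mul_single_of_ne _ _ _ _ hkj.symm, zero_mul, add_zero]
  abel

theorem tr_mem {H : Subgroup (GL ι F)} {i k j : ι} (hik : i ≠ k) (hkj : k ≠ j) (hij : i ≠ j) {a b : F}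
    (ha : tr hik a ∈ H) (hb : tr hkj b ∈ H) : tr hij (a * b) ∈ H :=
  tr_comm hik hkj hij a b ▸ mul_mem (mul_mem (mul_mem ha hb) (inv_mem ha)) (inv_mem hb)

end CfsgLib.MaxSub.QuadTwo
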